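import Cfsg.Agent.LV.W.N6
import Cfsg.Agent.LV.W.Enu

/-! LV/W: generated data (helper25) -/

set_option autoImplicit false
set_option maxRecDepth 100000

namespace Cfsg.Agent.LV.W

noncomputable def T0_ce : Ce := ⟨1, 1,
    (List.map (fun p : ℕ × ℕ × ℤ => (⟨[p.1], [p.2.1], [(p.2.2, 1, [])]⟩ : Blk)) (List.zip (unp 1 0x1) (List.zip
    (unp 1 0x1) (unz 2 0xa)))) ++ []⟩

theorem T0_ceOK : T0_L.ceOK T0_ce = true := by decide +kernel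

noncomputable def A1_ce : Ce := ⟨1, 1,
    (List.map (fun p : ℕ × ℕ × ℤ => (⟨[p.1], [p.2.1], [(p.2.2, 1, [])]⟩ : Blk)) (List.zip (unp 1 0xd) (List.zip
    (unp 1 0xd) (unz 2 0xaa)))) ++ []⟩

theorem A1_ceOK : A1_L.ceOK A1_ce = true := by decide +kernel

noncomputable def G2_ce : Ce := ⟨6, 180,
    (List.map (fun p : ℕ × ℕ × ℤ => (⟨[p.1], [p.2.1], [(p.2.2, 1, [])]⟩ : Blk)) (List.zip (unp 2 0x71) (List.zip
    (unp 2 0xb9) (unz 4 0x2d13689)))) ++ [⟨[1, 2, 4, 5], [4, 3, 2, 1], List.map (fun l => (nth 0 l 0, nth 0 l 1,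
    l.drop 2)) (List.map (unz 4) [0x22b48, 0x450e46, 0x438d263, 0xc6287e5])⟩]⟩

theorem G2_ceOK : G2_L.ceOK G2_ce = true := by decide +kernel

noncomputable def G2_10_ce : Ce := ⟨2, 12,
    (List.map (fun p : ℕ × ℕ × ℤ => (⟨[p.1], [p.2.1], [(p.2.2, 1, [])]⟩ : Blk)) (List.zip (unp 1 0xd) (List.zip
    (unp 1 0xd) (unz 3 0xc5c5)))) ++ [⟨[2, 3], [2, 3], List.map (fun l => (nth 0 l 0, nth 0 l 1, l.drop 2))
    (List.map (unz 2) [0x15b, 0xb3a])⟩]⟩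

theorem G2_10_ceOK : G2_10_L.ceOK G2_10_ce = true := by decide +kernel

noncomputable def B2_10_ce : Ce := ⟨1, 2,
    (List.map (fun p : ℕ × ℕ × ℤ => (⟨[p.1], [p.2.1], [(p.2.2, 1, [])]⟩ : Blk)) (List.zip (unp 2 0x2a9) (List.zip
    (unp 2 0x2a9) (unz 2 0x2a73)))) ++ []⟩

theorem B2_10_ceOK : B2_10_L.ceOK B2_10_ce = true := by decide +kernel

noncomputable def A2_ce : Ce := ⟨1, 1,
    (List.map (fun p : ℕ × ℕ × ℤ => (⟨[p.1], [p.2.1], [(p.2.2, 1, [])]⟩ : Blk)) (List.zip (unp 2 0x2a9) (List.zip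
    (unp 2 0x2a9) (unz 2 0xaaa)))) ++ []⟩

theorem A2_ceOK : A2_L.ceOK A2_ce = true := by decide +kernel

noncomputable def A2_10_ce : Ce := ⟨1, 1,
    (List.map (fun p : ℕ × ℕ × ℤ => (⟨[p.1], [p.2.1], [(p.2.2, 1, [])]⟩ : Blk)) (List.zip (unp 2 0x2a9) (List.zip
    (unp 2 0x2a9) (unz 2 0xaaa)))) ++ []⟩

theorem A2_10_ceOK : A2_10_L.ceOK A2_10_ce = true := by decide +kernel

noncomputable def A1A1_ce : Ce := ⟨1, 1,
    (List.map (fun p : ℕ × ℕ × ℤ => (⟨[p.1], [p.2.1], [(p.2.2, 1, [])]⟩ : Blk)) (List.zip (unp 2 0x3aa9) (List.zip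
    (unp 2 0x3aa9) (unz 2 0xaaaa)))) ++ []⟩

theorem A1A1_ceOK : A1A1_L.ceOK A1A1_ce = true := by decide +kernel

noncomputable def A1A1_10_ce : Ce := ⟨1, 1,
    (List.map (fun p : ℕ × ℕ × ℤ => (⟨[p.1], [p.2.1], [(p.2.2, 1, [])]⟩ : Blk)) (List.zip (unp 1 0xd) (List.zip
    (unp 1 0xd) (unz 2 0xaa)))) ++ []⟩

theorem A1A1_10_ceOK : A1A1_10_L.ceOK A1A1_10_ce = true := by decide +kernel

noncomputable def B2_ce : Ce := ⟨2, 12,
    (List.map (fun p : ℕ × ℕ × ℤ => (⟨[p.1], [p.2.1], [(p.2.2, 1, [])]⟩ : Blk)) (List.zip (unp 2 0x71) (List.zip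
    (unp 2 0x99) (unz 3 0xc5c5)))) ++ [⟨[1, 2, 4], [1, 2, 3], List.map (fun l => (nth 0 l 0, nth 0 l 1, l.drop 2))
    (List.map (unz 3) [0x964, 0x128e3, 0x99672])⟩]⟩

theorem B2_ceOK : B2_L.ceOK B2_ce = true := by decide +kernel

noncomputable def C3_ce : Ce := ⟨2, 12,
    (List.map (fun p : ℕ × ℕ × ℤ => (⟨[p.1], [p.2.1], [(p.2.2, 1, [])]⟩ : Blk)) (List.zip (unp 3 0x2277a1)
    (List.zip (unp 3 0x9913b1) (unz 3 0xc5c5c5c5)))) ++ [⟨[1, 5, 9], [1, 2, 3], List.map (fun l => (nth 0 l 0, nth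
    0 l 1, l.drop 2)) (List.map (unz 3) [0x964, 0x128e3, 0x94e72])⟩, ⟨[2, 4, 6], [4, 5, 6], List.map (fun l => (nth
    0 l 0, nth 0 l 1, l.drop 2)) (List.map (unz 3) [0x964, 0x128e3, 0x94e72])⟩]⟩

theorem C3_ceOK : C3_L.ceOK C3_ce = true := by decide +kernel

noncomputable def A2A1_ce : Ce := ⟨1, 1,
    (List.map (fun p : ℕ × ℕ × ℤ => (⟨[p.1], [p.2.1], [(p.2.2, 1, [])]⟩ : Blk)) (List.zip (unp 2 0xbcfaa9)
    (List.zip (unp 2 0xbcfaa9) (unz 2 0xaaaaaa)))) ++ []⟩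

theorem A2A1_ceOK : A2A1_L.ceOK A2A1_ce = true := by decide +kernel

noncomputable def A2A1_102_ce : Ce := ⟨1, 1,
    (List.map (fun p : ℕ × ℕ × ℤ => (⟨[p.1], [p.2.1], [(p.2.2, 1, [])]⟩ : Blk)) (List.zip (unp 2 0xbcfaa9)
    (List.zip (unp 2 0xbcfaa9) (unz 2 0xaaaaaa)))) ++ []⟩

theorem A2A1_102_ceOK : A2A1_102_L.ceOK A2A1_102_ce = true := by decide +kernel

noncomputable def B3_ce : Ce := ⟨2, 12,
    (List.map (fun p : ℕ × ℕ × ℤ => (⟨[p.1], [p.2.1], [(p.2.2, 1, [])]⟩ : Blk)) (List.zip (unp 3 0x2277a1)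
    (List.zip (unp 3 0x9913b1) (unz 3 0xc5c5c5c5)))) ++ [⟨[1, 5, 9], [1, 2, 3], List.map (fun l => (nth 0 l 0, nth
    0 l 1, l.drop 2)) (List.map (unz 3) [0x964, 0x128e3, 0x94e72])⟩, ⟨[2, 4, 6], [4, 5, 6], List.map (fun l => (nth
    0 l 0, nth 0 l 1, l.drop 2)) (List.map (unz 3) [0x964, 0x128e3, 0x94e72])⟩]⟩

theorem B3_ceOK : B3_L.ceOK B3_ce = true := by decide +kernel

noncomputable def F4_ce : Ce := ⟨24, 281211840,
    (List.map (fun p : ℕ × ℕ × ℤ => (⟨[p.1], [p.2.1], [(p.2.2, 1, [])]⟩ : Blk)) (List.zip (unp 3 0xb59d958d85f9a1)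
    (List.zip (unp 3 0x62dedad6d2cee41) (unz 5
    0x86179e03d0c2f3c07a185e780f430bcf01e86179e03d0c2f3c07a185e780f430bcf01e)))) ++ [⟨[4, 5, 8], [13, 14, 15],
    List.map (fun l => (nth 0 l 0, nth 0 l 1, l.drop 2)) (List.map (unz 5) [0x10a185e781d, 0x2183b2ca281b,
    0x430e1d965141a])⟩, ⟨[6, 7, 12], [16, 17, 18], List.map (fun l => (nth 0 l 0, nth 0 l 1, l.drop 2)) (List.map
    (unz 5) [0x10a185e781d, 0x2183b2ca281b, 0x430e1d965141a])⟩, ⟨[1, 2, 9, 10, 11, 13, 14, 20, 21, 23, 24], [11,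
    10, 9, 8, 7, 6, 5, 4, 3, 2, 1], List.map (fun l => (nth 0 l 0, nth 0 l 1, l.drop 2)) (List.map (unz 5)
    [0x850c2f3c1c, 0x10c1d965141a, 0x21870ecb28a19, 0x1850c1d965141a, 0x51c1e2c584b2ca297, 0x2c5c507076480d98a994,
    0x88d2489717931706848a13, 0x2e5a383f9685f960e51fffc11, 0x213403e280d34f92ec6a8d5c8c240f,
    0x1f9ac3533d8ba1b258cdb2f1209160150, 0x38f141c3070e2c5874702d965156])⟩]⟩

theorem F4_ceOK : F4_L.ceOK F4_ce = true := by decide +kernel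

noncomputable def F4_3210_ce : Ce := ⟨12, 72864,
    (List.map (fun p : ℕ × ℕ × ℤ => (⟨[p.1], [p.2.1], [(p.2.2, 1, [])]⟩ : Blk)) (List.zip (unp 3 0x44ef5291)
    (List.zip (unp 3 0xa9335291) (unz 5 0x8e5046394118e50251ca04a39409472812)))) ++ [⟨[4, 5, 6, 9, 10], [8, 7, 6,
    5, 4], List.map (fun l => (nth 0 l 0, nth 0 l 1, l.drop 2)) (List.map (unz 5) [0x857b810, 0x870e280d,
    0x24904b16409, 0x132c0b0dc6847, 0xc40c28504bdcb])⟩]⟩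

theorem F4_3210_ceOK : F4_3210_L.ceOK F4_3210_ce = true := by decide +kernel

noncomputable def A3_ce : Ce := ⟨1, 1,
    (List.map (fun p : ℕ × ℕ × ℤ => (⟨[p.1], [p.2.1], [(p.2.2, 1, [])]⟩ : Blk)) (List.zip (unp 2 0x4faa9) (List.zip
    (unp 2 0x4faa9) (unz 2 0xaaaaa)))) ++ []⟩

theorem A3_ceOK : A3_L.ceOK A3_ce = true := by decide +kernel

noncomputable def A3_210_ce : Ce := ⟨1, 1,
    (List.map (fun p : ℕ × ℕ × ℤ => (⟨[p.1], [p.2.1], [(p.2.2, 1, [])]⟩ : Blk)) (List.zip (unp 2 0x4faa9) (List.zip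
    (unp 2 0x4faa9) (unz 2 0xaaaaa)))) ++ []⟩

theorem A3_210_ceOK : A3_210_L.ceOK A3_210_ce = true := by decide +kernel

noncomputable def A1A1A1_ce : Ce := ⟨1, 1,
    (List.map (fun p : ℕ × ℕ × ℤ => (⟨[p.1], [p.2.1], [(p.2.2, 1, [])]⟩ : Blk)) (List.zip (unp 2 0x3fbbcfaa9)
    (List.zip (unp 2 0x3fbbcfaa9) (unz 2 0xaaaaaaaa)))) ++ []⟩

theorem A1A1A1_ceOK : A1A1A1_L.ceOK A1A1A1_ce = true := by decide +kernel

noncomputable def A1A1A1_021_ce : Ce := ⟨1, 1,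
    (List.map (fun p : ℕ × ℕ × ℤ => (⟨[p.1], [p.2.1], [(p.2.2, 1, [])]⟩ : Blk)) (List.zip (unp 2 0x3aa9) (List.zip
    (unp 2 0x3aa9) (unz 2 0xaaaa)))) ++ []⟩

theorem A1A1A1_021_ceOK : A1A1A1_021_L.ceOK A1A1A1_021_ce = true := by decide +kernel

noncomputable def A1A1A1_120_ce : Ce := ⟨1, 1,
    (List.map (fun p : ℕ × ℕ × ℤ => (⟨[p.1], [p.2.1], [(p.2.2, 1, [])]⟩ : Blk)) (List.zip (unp 1 0xd) (List.zip
    (unp 1 0xd) (unz 2 0xaa)))) ++ []⟩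

theorem A1A1A1_120_ceOK : A1A1A1_120_L.ceOK A1A1A1_120_ce = true := by decide +kernel

noncomputable def D4_2130_ce : Ce := ⟨2, 12,
    (List.map (fun p : ℕ × ℕ × ℤ => (⟨[p.1], [p.2.1], [(p.2.2, 1, [])]⟩ : Blk)) (List.zip (unp 2 0x3aa9) (List.zip
    (unp 2 0x3aa9) (unz 3 0xc5c5c5c5)))) ++ [⟨[4, 5, 6], [6, 5, 4], List.map (fun l => (nth 0 l 0, nth 0 l 1,
    l.drop 2)) (List.map (unz 3) [0x964, 0x98e3, 0x11ce72])⟩]⟩

theorem D4_2130_ceOK : D4_2130_L.ceOK D4_2130_ce = true := by decide +kernel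

noncomputable def A4_ce : Ce := ⟨1, 1,
    (List.map (fun p : ℕ × ℕ × ℤ => (⟨[p.1], [p.2.1], [(p.2.2, 1, [])]⟩ : Blk)) (List.zip (unp 2 0x1bbcfaa9)
    (List.zip (unp 2 0x1bbcfaa9) (unz 2 0xaaaaaaa)))) ++ []⟩

theorem A4_ceOK : A4_L.ceOK A4_ce = true := by decide +kernel

noncomputable def A4_3210_ce : Ce := ⟨1, 1,
    (List.map (fun p : ℕ × ℕ × ℤ => (⟨[p.1], [p.2.1], [(p.2.2, 1, [])]⟩ : Blk)) (List.zip (unp 2 0x1bbcfaa9)
    (List.zip (unp 2 0x1bbcfaa9) (unz 2 0xaaaaaaa)))) ++ []⟩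

theorem A4_3210_ceOK : A4_3210_L.ceOK A4_3210_ce = true := by decide +kernel

noncomputable def A2A1A1_ce : Ce := ⟨1, 1,
    (List.map (fun p : ℕ × ℕ × ℤ => (⟨[p.1], [p.2.1], [(p.2.2, 1, [])]⟩ : Blk)) (List.zip (unp 3
    0x2e549913bceb8f5291) (List.zip (unp 3 0x2e549913bceb8f5291) (unz 2 0xaaaaaaaaaaaa)))) ++ []⟩

theorem A2A1A1_ceOK : A2A1A1_L.ceOK A2A1A1_ce = true := by decide +kernel

noncomputable def A2A1A1_0132_ce : Ce := ⟨1, 1,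
    (List.map (fun p : ℕ × ℕ × ℤ => (⟨[p.1], [p.2.1], [(p.2.2, 1, [])]⟩ : Blk)) (List.zip (unp 2 0xbcfaa9)
    (List.zip (unp 2 0xbcfaa9) (unz 2 0xaaaaaa)))) ++ []⟩

theorem A2A1A1_0132_ceOK : A2A1A1_0132_L.ceOK A2A1A1_0132_ce = true := by decide +kernel

noncomputable def A2A1A1_1023_ce : Ce := ⟨1, 1,
    (List.map (fun p : ℕ × ℕ × ℤ => (⟨[p.1], [p.2.1], [(p.2.2, 1, [])]⟩ : Blk)) (List.zip (unp 3
    0x2e549913bceb8f5291) (List.zip (unp 3 0x2e549913bceb8f5291) (unz 2 0xaaaaaaaaaaaa)))) ++ []⟩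

theorem A2A1A1_1023_ceOK : A2A1A1_1023_L.ceOK A2A1A1_1023_ce = true := by decide +kernel

noncomputable def A2A1A1_1032_ce : Ce := ⟨1, 1,
    (List.map (fun p : ℕ × ℕ × ℤ => (⟨[p.1], [p.2.1], [(p.2.2, 1, [])]⟩ : Blk)) (List.zip (unp 2 0xbcfaa9)
    (List.zip (unp 2 0xbcfaa9) (unz 2 0xaaaaaa)))) ++ []⟩

theorem A2A1A1_1032_ceOK : A2A1A1_1032_L.ceOK A2A1A1_1032_ce = true := by decide +kernel

noncomputable def A3A1_ce : Ce := ⟨1, 1,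
    (List.map (fun p : ℕ × ℕ × ℤ => (⟨[p.1], [p.2.1], [(p.2.2, 1, [])]⟩ : Blk)) (List.zip (unp 3 0x9913bceb8f5291)
    (List.zip (unp 3 0x9913bceb8f5291) (unz 2 0xaaaaaaaaaa)))) ++ []⟩

theorem A3A1_ceOK : A3A1_L.ceOK A3A1_ce = true := by decide +kernel

noncomputable def A3A1_2103_ce : Ce := ⟨1, 1,
    (List.map (fun p : ℕ × ℕ × ℤ => (⟨[p.1], [p.2.1], [(p.2.2, 1, [])]⟩ : Blk)) (List.zip (unp 3 0x9913bceb8f5291)
    (List.zip (unp 3 0x9913bceb8f5291) (unz 2 0xaaaaaaaaaa)))) ++ []⟩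

theorem A3A1_2103_ceOK : A3A1_2103_L.ceOK A3A1_2103_ce = true := by decide +kernel

noncomputable def D4_ce : Ce := ⟨2, 12,
    (List.map (fun p : ℕ × ℕ × ℤ => (⟨[p.1], [p.2.1], [(p.2.2, 1, [])]⟩ : Blk)) (List.zip (unp 3 0x2a4c89de75c7a91)
    (List.zip (unp 3 0x192e549913bceb91) (unz 3 0xc5c5c5c5c5c5c5c5c5c5)))) ++ [⟨[2, 11, 12], [2, 3, 4], List.map
    (fun l => (nth 0 l 0, nth 0 l 1, l.drop 2)) (List.map (unz 3) [0x964, 0x128e3, 0x94e72])⟩]⟩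

theorem D4_ceOK : D4_L.ceOK D4_ce = true := by decide +kernel

noncomputable def D4_0132_ce : Ce := ⟨2, 12,
    (List.map (fun p : ℕ × ℕ × ℤ => (⟨[p.1], [p.2.1], [(p.2.2, 1, [])]⟩ : Blk)) (List.zip (unp 2 0x1bbcea9)
    (List.zip (unp 3 0x89de7291) (unz 3 0xc5c5c5c5c5c5)))) ++ [⟨[3, 7, 8], [3, 4, 5], List.map (fun l => (nth 0 l
    0, nth 0 l 1, l.drop 2)) (List.map (unz 3) [0x964, 0x98e3, 0x4ce72])⟩]⟩

theorem D4_0132_ceOK : D4_0132_L.ceOK D4_0132_ce = true := by decide +kernel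

noncomputable def D5_ce : Ce := ⟨2, 12,
    (List.map (fun p : ℕ × ℕ × ℤ => (⟨[p.1], [p.2.1], [(p.2.2, 1, [])]⟩ : Blk)) (List.zip (unp 3
    0x2361764cb913b8f5291) (List.zip (unp 3 0x46c2fce9b325c8f5291) (unz 3 0xc5c5c5c5c5c5c5c5c5c5c5c5)))) ++ [⟨[5,
    10, 14], [5, 6, 7], List.map (fun l => (nth 0 l 0, nth 0 l 1, l.drop 2)) (List.map (unz 3) [0x964, 0x128e3,
    0x94e72])⟩, ⟨[6, 12, 15], [8, 9, 10], List.map (fun l => (nth 0 l 0, nth 0 l 1, l.drop 2)) (List.map (unz 3)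
    [0x964, 0x128e3, 0x94e72])⟩]⟩

theorem D5_ceOK : D5_L.ceOK D5_ce = true := by decide +kernel

noncomputable def D5_01243_ce : Ce := ⟨2, 12,
    (List.map (fun p : ℕ × ℕ × ℤ => (⟨[p.1], [p.2.1], [(p.2.2, 1, [])]⟩ : Blk)) (List.zip (unp 3
    0x1f3a5ca9322779c7a91) (List.zip (unp 3 0x23617e74d992e54ceb91) (unz 3 0xc5c5c5c5c5c5c5c5c5c5c5c5)))) ++ [⟨[2,
    12, 16], [2, 3, 4], List.map (fun l => (nth 0 l 0, nth 0 l 1, l.drop 2)) (List.map (unz 3) [0x964, 0x128e3,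
    0x99672])⟩, ⟨[5, 13, 17], [7, 8, 9], List.map (fun l => (nth 0 l 0, nth 0 l 1, l.drop 2)) (List.map (unz 3)
    [0x964, 0x128e3, 0x99672])⟩]⟩

theorem D5_01243_ceOK : D5_01243_L.ceOK D5_01243_ce = true := by decide +kernel

noncomputable def A4A1_ce : Ce := ⟨1, 1,
    (List.map (fun p : ℕ × ℕ × ℤ => (⟨[p.1], [p.2.1], [(p.2.2, 1, [])]⟩ : Blk)) (List.zip (unp 3
    0xd992e549913bceb8f5291) (List.zip (unp 3 0xd992e549913bceb8f5291) (unz 2 0xaaaaaaaaaaaaaa)))) ++ []⟩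

theorem A4A1_ceOK : A4A1_L.ceOK A4A1_ce = true := by decide +kernel

noncomputable def A4A1_32104_ce : Ce := ⟨1, 1,
    (List.map (fun p : ℕ × ℕ × ℤ => (⟨[p.1], [p.2.1], [(p.2.2, 1, [])]⟩ : Blk)) (List.zip (unp 3
    0xd992e549913bceb8f5291) (List.zip (unp 3 0xd992e549913bceb8f5291) (unz 2 0xaaaaaaaaaaaaaa)))) ++ []⟩

theorem A4A1_32104_ceOK : A4A1_32104_L.ceOK A4A1_32104_ce = true := by decide +kernel

noncomputable def A2A2_ce : Ce := ⟨1, 1,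
    (List.map (fun p : ℕ × ℕ × ℤ => (⟨[p.1], [p.2.1], [(p.2.2, 1, [])]⟩ : Blk)) (List.zip (unp 3 0x113bceb8f5291)
    (List.zip (unp 3 0x113bceb8f5291) (unz 2 0xaaaaaaaaa)))) ++ []⟩

theorem A2A2_ceOK : A2A2_L.ceOK A2A2_ce = true := by decide +kernel

noncomputable def A2A2_0132_ce : Ce := ⟨1, 1,
    (List.map (fun p : ℕ × ℕ × ℤ => (⟨[p.1], [p.2.1], [(p.2.2, 1, [])]⟩ : Blk)) (List.zip (unp 3 0x113bceb8f5291)
    (List.zip (unp 3 0x113bceb8f5291) (unz 2 0xaaaaaaaaa)))) ++ []⟩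

theorem A2A2_0132_ceOK : A2A2_0132_L.ceOK A2A2_0132_ce = true := by decide +kernel

noncomputable def A2A2_1032_ce : Ce := ⟨1, 1,
    (List.map (fun p : ℕ × ℕ × ℤ => (⟨[p.1], [p.2.1], [(p.2.2, 1, [])]⟩ : Blk)) (List.zip (unp 3 0x113bceb8f5291)
    (List.zip (unp 3 0x113bceb8f5291) (unz 2 0xaaaaaaaaa)))) ++ []⟩

theorem A2A2_1032_ceOK : A2A2_1032_L.ceOK A2A2_1032_ce = true := by decide +kernel

noncomputable def A2A2_2301_ce : Ce := ⟨1, 1,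
    (List.map (fun p : ℕ × ℕ × ℤ => (⟨[p.1], [p.2.1], [(p.2.2, 1, [])]⟩ : Blk)) (List.zip (unp 2 0x2a9) (List.zip
    (unp 2 0x2a9) (unz 2 0xaaa)))) ++ []⟩

theorem A2A2_2301_ceOK : A2A2_2301_L.ceOK A2A2_2301_ce = true := by decide +kernel

noncomputable def A2A2_2310_ce : Ce := ⟨1, 1,
    (List.map (fun p : ℕ × ℕ × ℤ => (⟨[p.1], [p.2.1], [(p.2.2, 1, [])]⟩ : Blk)) (List.zip (unp 2 0x2a9) (List.zip
    (unp 2 0x2a9) (unz 2 0xaaa)))) ++ []⟩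

theorem A2A2_2310_ceOK : A2A2_2310_L.ceOK A2A2_2310_ce = true := by decide +kernel

noncomputable def A2A2A1_ce : Ce := ⟨1, 1,
    (List.map (fun p : ℕ × ℕ × ℤ => (⟨[p.1], [p.2.1], [(p.2.2, 1, [])]⟩ : Blk)) (List.zip (unp 3
    0x23617e74d992e549913bceb8f5291) (List.zip (unp 3 0x23617e74d992e549913bceb8f5291) (unz 2
    0xaaaaaaaaaaaaaaaaaa)))) ++ []⟩

theorem A2A2A1_ceOK : A2A2A1_L.ceOK A2A2A1_ce = true := by decide +kernel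

noncomputable def A2A2A1_01324_ce : Ce := ⟨1, 1,
    (List.map (fun p : ℕ × ℕ × ℤ => (⟨[p.1], [p.2.1], [(p.2.2, 1, [])]⟩ : Blk)) (List.zip (unp 3
    0x23617e74d992e549913bceb8f5291) (List.zip (unp 3 0x23617e74d992e549913bceb8f5291) (unz 2
    0xaaaaaaaaaaaaaaaaaa)))) ++ []⟩

theorem A2A2A1_01324_ceOK : A2A2A1_01324_L.ceOK A2A2A1_01324_ce = true := by decide +kernel

noncomputable def A2A2A1_10324_ce : Ce := ⟨1, 1,
    (List.map (fun p : ℕ × ℕ × ℤ => (⟨[p.1], [p.2.1], [(p.2.2, 1, [])]⟩ : Blk)) (List.zip (unp 3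
    0x23617e74d992e549913bceb8f5291) (List.zip (unp 3 0x23617e74d992e549913bceb8f5291) (unz 2
    0xaaaaaaaaaaaaaaaaaa)))) ++ []⟩

theorem A2A2A1_10324_ceOK : A2A2A1_10324_L.ceOK A2A2A1_10324_ce = true := by decide +kernel

noncomputable def A2A2A1_23014_ce : Ce := ⟨1, 1,
    (List.map (fun p : ℕ × ℕ × ℤ => (⟨[p.1], [p.2.1], [(p.2.2, 1, [])]⟩ : Blk)) (List.zip (unp 2 0xbcfaa9)
    (List.zip (unp 2 0xbcfaa9) (unz 2 0xaaaaaa)))) ++ []⟩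

theorem A2A2A1_23014_ceOK : A2A2A1_23014_L.ceOK A2A2A1_23014_ce = true := by decide +kernel

noncomputable def A2A2A1_23104_ce : Ce := ⟨1, 1,
    (List.map (fun p : ℕ × ℕ × ℤ => (⟨[p.1], [p.2.1], [(p.2.2, 1, [])]⟩ : Blk)) (List.zip (unp 2 0xbcfaa9)
    (List.zip (unp 2 0xbcfaa9) (unz 2 0xaaaaaa)))) ++ []⟩

theorem A2A2A1_23104_ceOK : A2A2A1_23104_L.ceOK A2A2A1_23104_ce = true := by decide +kernel

noncomputable def A5_ce : Ce := ⟨1, 1,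
    (List.map (fun p : ℕ × ℕ × ℤ => (⟨[p.1], [p.2.1], [(p.2.2, 1, [])]⟩ : Blk)) (List.zip (unp 3
    0x54ef3ae647135291) (List.zip (unp 3 0x549913bceb8f5291) (unz 2 0xaaaaaaaaaaa)))) ++ []⟩

theorem A5_ceOK : A5_L.ceOK A5_ce = true := by decide +kernel

noncomputable def A5_43210_ce : Ce := ⟨1, 1,
    (List.map (fun p : ℕ × ℕ × ℤ => (⟨[p.1], [p.2.1], [(p.2.2, 1, [])]⟩ : Blk)) (List.zip (unp 3
    0x54999c4afb8f5291) (List.zip (unp 3 0x549913bceb8f5291) (unz 2 0xaaaaaaaaaaa)))) ++ []⟩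

theorem A5_43210_ceOK : A5_43210_L.ceOK A5_43210_ce = true := by decide +kernel

noncomputable def E6_ce : Ce := ⟨6, 72,
    (List.map (fun p : ℕ × ℕ × ℤ => (⟨[p.1], [p.2.1], [(p.2.2, 1, [])]⟩ : Blk)) (List.zip (unp 3
    0x2f6d6967657642e4b9335291) (List.zip (unp 3 0x18b7b6b5b4b3b2b1b0bf35291) (unz 4
    0x908908908908908908908908908908908908908908)))) ++ [⟨[5, 6, 14], [9, 10, 11], List.map (fun l => (nth 0 l 0,
    nth 0 l 1, l.drop 2)) (List.map (unz 3) [0x4a47, 0x4a3c5, 0x2539e4])⟩, ⟨[7, 8, 15], [12, 13, 14], List.map (fun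
    l => (nth 0 l 0, nth 0 l 1, l.drop 2)) (List.map (unz 3) [0x4a47, 0x4a3c5, 0x2659e4])⟩, ⟨[4, 10, 17, 21, 24],
    [8, 7, 6, 5, 4], List.map (fun l => (nth 0 l 0, nth 0 l 1, l.drop 2)) (List.map (unz 3) [0x4a47, 0xca47,
    0x266395, 0x4c86395, 0x158ca5123])⟩]⟩

theorem E6_ceOK : E6_L.ceOK E6_ce = true := by decide +kernel

noncomputable def E6_514320_ce : Ce := ⟨6, 72,
    (List.map (fun p : ℕ × ℕ × ℤ => (⟨[p.1], [p.2.1], [(p.2.2, 1, [])]⟩ : Blk)) (List.zip (unp 3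
    0x316f65636a42ccf9de75c7a1) (List.zip (unp 3 0x18b7b6b5b4b3b2b92e549913b1) (unz 4
    0x908908908908908908908908908908908908908908)))) ++ [⟨[1, 14, 20], [3, 2, 1], List.map (fun l => (nth 0 l 0,
    nth 0 l 1, l.drop 2)) (List.map (unz 3) [0x4a47, 0x263c5, 0x4739e4])⟩, ⟨[2, 13, 19], [4, 5, 6], List.map (fun l
    => (nth 0 l 0, nth 0 l 1, l.drop 2)) (List.map (unz 3) [0x4a47, 0x263c5, 0x1339e4])⟩, ⟨[8, 11, 12, 21, 22],
    [17, 16, 15, 14, 13], List.map (fun l => (nth 0 l 0, nth 0 l 1, l.drop 2)) (List.map (unz 3) [0x4a47, 0xca47,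
    0x266395, 0x4a46395, 0xcc665123])⟩]⟩

theorem E6_514320_ceOK : E6_514320_L.ceOK E6_514320_ce = true := by decide +kernel

/-- the certificates for `G2_Ls` -/
noncomputable def G2_ces : List Ce :=
    [T0_ce, A1_ce]

theorem G2_ces_ok : List.Forall₂ (fun (L : Lat) c => L.ceOK c = true) G2_Ls G2_ces :=
    (List.Forall₂.cons T0_ceOK (List.Forall₂.cons A1_ceOK List.Forall₂.nil))

/-- the certificates for `F4_Ls` -/
noncomputable def F4_ces : List Ce :=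
    [T0_ce, A1_ce, A2_ce, A2_10_ce, A1A1_ce, A1A1_10_ce, B2_ce, C3_ce, A2A1_ce, A2A1_102_ce, B3_ce]

theorem F4_ces_ok : List.Forall₂ (fun (L : Lat) c => L.ceOK c = true) F4_Ls F4_ces :=
    (List.Forall₂.cons T0_ceOK (List.Forall₂.cons A1_ceOK (List.Forall₂.cons A2_ceOK (List.Forall₂.cons A2_10_ceOK
    (List.Forall₂.cons A1A1_ceOK (List.Forall₂.cons A1A1_10_ceOK (List.Forall₂.cons B2_ceOK (List.Forall₂.cons
    C3_ceOK (List.Forall₂.cons A2A1_ceOK (List.Forall₂.cons A2A1_102_ceOK (List.Forall₂.cons B3_ceOK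
    List.Forall₂.nil)))))))))))

/-- the certificates for `D4_Ls` -/
noncomputable def D4_ces : List Ce :=
    [T0_ce, A1_ce, A2_ce, A2_10_ce, A1A1_ce, A1A1_10_ce, A3_ce, A3_210_ce, A1A1A1_ce, A1A1A1_021_ce, A1A1A1_120_ce]

theorem D4_ces_ok : List.Forall₂ (fun (L : Lat) c => L.ceOK c = true) D4_Ls D4_ces :=
    (List.Forall₂.cons T0_ceOK (List.Forall₂.cons A1_ceOK (List.Forall₂.cons A2_ceOK (List.Forall₂.cons A2_10_ceOK
    (List.Forall₂.cons A1A1_ceOK (List.Forall₂.cons A1A1_10_ceOK (List.Forall₂.cons A3_ceOK (List.Forall₂.cons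
    A3_210_ceOK (List.Forall₂.cons A1A1A1_ceOK (List.Forall₂.cons A1A1A1_021_ceOK (List.Forall₂.cons
    A1A1A1_120_ceOK List.Forall₂.nil)))))))))))

/-- the certificates for `E6_Ls` -/
noncomputable def E6_ces : List Ce :=
    [T0_ce, A1_ce, A1A1_ce, A1A1_10_ce, A2_ce, A2_10_ce, A2A1_ce, A2A1_102_ce, A3_ce, A3_210_ce, A4_ce, A4_3210_ce,
    A1A1A1_ce, A1A1A1_021_ce, A1A1A1_120_ce, A2A1A1_ce, A2A1A1_0132_ce, A2A1A1_1023_ce, A2A1A1_1032_ce, A3A1_ce,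
    A3A1_2103_ce, D4_ce, D4_0132_ce, D4_2130_ce, D5_ce, D5_01243_ce, A4A1_ce, A4A1_32104_ce, A2A2_ce, A2A2_0132_ce,
    A2A2_1032_ce, A2A2_2301_ce, A2A2_2310_ce, A2A2A1_ce, A2A2A1_01324_ce, A2A2A1_10324_ce, A2A2A1_23014_ce,
    A2A2A1_23104_ce, A5_ce, A5_43210_ce]

theorem E6_ces_ok : List.Forall₂ (fun (L : Lat) c => L.ceOK c = true) E6_Ls E6_ces :=
    (List.Forall₂.cons T0_ceOK (List.Forall₂.cons A1_ceOK (List.Forall₂.cons A1A1_ceOK (List.Forall₂.cons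
    A1A1_10_ceOK (List.Forall₂.cons A2_ceOK (List.Forall₂.cons A2_10_ceOK (List.Forall₂.cons A2A1_ceOK
    (List.Forall₂.cons A2A1_102_ceOK (List.Forall₂.cons A3_ceOK (List.Forall₂.cons A3_210_ceOK (List.Forall₂.cons
    A4_ceOK (List.Forall₂.cons A4_3210_ceOK (List.Forall₂.cons A1A1A1_ceOK (List.Forall₂.cons A1A1A1_021_ceOK
    (List.Forall₂.cons A1A1A1_120_ceOK (List.Forall₂.cons A2A1A1_ceOK (List.Forall₂.cons A2A1A1_0132_ceOK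
    (List.Forall₂.cons A2A1A1_1023_ceOK (List.Forall₂.cons A2A1A1_1032_ceOK (List.Forall₂.cons A3A1_ceOK
    (List.Forall₂.cons A3A1_2103_ceOK (List.Forall₂.cons D4_ceOK (List.Forall₂.cons D4_0132_ceOK (List.Forall₂.cons
    D4_2130_ceOK (List.Forall₂.cons D5_ceOK (List.Forall₂.cons D5_01243_ceOK (List.Forall₂.cons A4A1_ceOK
    (List.Forall₂.cons A4A1_32104_ceOK (List.Forall₂.cons A2A2_ceOK (List.Forall₂.cons A2A2_0132_ceOK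
    (List.Forall₂.cons A2A2_1032_ceOK (List.Forall₂.cons A2A2_2301_ceOK (List.Forall₂.cons A2A2_2310_ceOK
    (List.Forall₂.cons A2A2A1_ceOK (List.Forall₂.cons A2A2A1_01324_ceOK (List.Forall₂.cons A2A2A1_10324_ceOK
    (List.Forall₂.cons A2A2A1_23014_ceOK (List.Forall₂.cons A2A2A1_23104_ceOK (List.Forall₂.cons A5_ceOK
    (List.Forall₂.cons A5_43210_ceOK List.Forall₂.nil))))))))))))))))))))))))))))))))))))))))


end Cfsg.Agent.LV.W
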