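import Cfsg.Agent.LV.W.N7
import Cfsg.Agent.LV.W.C6

/-! LV/W: generated data (helper25) -/

set_option autoImplicit false
set_option maxRecDepth 100000

namespace Cfsg.Agent.LV.W

noncomputable def A1A1A1A1_ce : Ce := ⟨1, 1,
    (List.map (fun p : ℕ × ℕ × ℤ => (⟨[p.1], [p.2.1], [(p.2.2, 1, [])]⟩ : Blk)) (List.zip (unp 3
    0x3e74d992e549913bceb8f5291) (List.zip (unp 3 0x3e74d992e549913bceb8f5291) (unz 2 0xaaaaaaaaaaaaaaaa)))) ++ []⟩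

theorem A1A1A1A1_ceOK : A1A1A1A1_L.ceOK A1A1A1A1_ce = true := by decide +kernel

noncomputable def A1A1A1A1_0132_ce : Ce := ⟨1, 1,
    (List.map (fun p : ℕ × ℕ × ℤ => (⟨[p.1], [p.2.1], [(p.2.2, 1, [])]⟩ : Blk)) (List.zip (unp 2 0x3fbbcfaa9)
    (List.zip (unp 2 0x3fbbcfaa9) (unz 2 0xaaaaaaaa)))) ++ []⟩

theorem A1A1A1A1_0132_ceOK : A1A1A1A1_0132_L.ceOK A1A1A1A1_0132_ce = true := by decide +kernel

noncomputable def A1A1A1A1_0231_ce : Ce := ⟨1, 1,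
    (List.map (fun p : ℕ × ℕ × ℤ => (⟨[p.1], [p.2.1], [(p.2.2, 1, [])]⟩ : Blk)) (List.zip (unp 2 0x3aa9) (List.zip
    (unp 2 0x3aa9) (unz 2 0xaaaa)))) ++ []⟩

theorem A1A1A1A1_0231_ceOK : A1A1A1A1_0231_L.ceOK A1A1A1A1_0231_ce = true := by decide +kernel

noncomputable def A1A1A1A1_1032_ce : Ce := ⟨1, 1,
    (List.map (fun p : ℕ × ℕ × ℤ => (⟨[p.1], [p.2.1], [(p.2.2, 1, [])]⟩ : Blk)) (List.zip (unp 2 0x3aa9) (List.zip
    (unp 2 0x3aa9) (unz 2 0xaaaa)))) ++ []⟩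

theorem A1A1A1A1_1032_ceOK : A1A1A1A1_1032_L.ceOK A1A1A1A1_1032_ce = true := by decide +kernel

noncomputable def A1A1A1A1_1230_ce : Ce := ⟨1, 1,
    (List.map (fun p : ℕ × ℕ × ℤ => (⟨[p.1], [p.2.1], [(p.2.2, 1, [])]⟩ : Blk)) (List.zip (unp 1 0xd) (List.zip
    (unp 1 0xd) (unz 2 0xaa)))) ++ []⟩

theorem A1A1A1A1_1230_ceOK : A1A1A1A1_1230_L.ceOK A1A1A1A1_1230_ce = true := by decide +kernel

noncomputable def A2A1A1A1_ce : Ce := ⟨1, 1,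
    (List.map (fun p : ℕ × ℕ × ℤ => (⟨[p.1], [p.2.1], [(p.2.2, 1, [])]⟩ : Blk)) (List.zip (unp 3
    0x2f6d6b69676563617e74d992e549913bceb8f5291) (List.zip (unp 3 0x2f6d6b69676563617e74d992e549913bceb8f5291) (unz
    2 0xaaaaaaaaaaaaaaaaaaaaaaaa)))) ++ []⟩

theorem A2A1A1A1_ceOK : A2A1A1A1_L.ceOK A2A1A1A1_ce = true := by decide +kernel

noncomputable def A2A1A1A1_01243_ce : Ce := ⟨1, 1,
    (List.map (fun p : ℕ × ℕ × ℤ => (⟨[p.1], [p.2.1], [(p.2.2, 1, [])]⟩ : Blk)) (List.zip (unp 3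
    0x2e549913bceb8f5291) (List.zip (unp 3 0x2e549913bceb8f5291) (unz 2 0xaaaaaaaaaaaa)))) ++ []⟩

theorem A2A1A1A1_01243_ceOK : A2A1A1A1_01243_L.ceOK A2A1A1A1_01243_ce = true := by decide +kernel

noncomputable def A2A1A1A1_01342_ce : Ce := ⟨1, 1,
    (List.map (fun p : ℕ × ℕ × ℤ => (⟨[p.1], [p.2.1], [(p.2.2, 1, [])]⟩ : Blk)) (List.zip (unp 2 0xbcfaa9)
    (List.zip (unp 2 0xbcfaa9) (unz 2 0xaaaaaa)))) ++ []⟩

theorem A2A1A1A1_01342_ceOK : A2A1A1A1_01342_L.ceOK A2A1A1A1_01342_ce = true := by decide +kernel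

noncomputable def A2A1A1A1_10234_ce : Ce := ⟨1, 1,
    (List.map (fun p : ℕ × ℕ × ℤ => (⟨[p.1], [p.2.1], [(p.2.2, 1, [])]⟩ : Blk)) (List.zip (unp 3
    0x2f6d6b69676563617e74d992e549913bceb8f5291) (List.zip (unp 3 0x2f6d6b69676563617e74d992e549913bceb8f5291) (unz
    2 0xaaaaaaaaaaaaaaaaaaaaaaaa)))) ++ []⟩

theorem A2A1A1A1_10234_ceOK : A2A1A1A1_10234_L.ceOK A2A1A1A1_10234_ce = true := by decide +kernel

noncomputable def A2A1A1A1_10243_ce : Ce := ⟨1, 1,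
    (List.map (fun p : ℕ × ℕ × ℤ => (⟨[p.1], [p.2.1], [(p.2.2, 1, [])]⟩ : Blk)) (List.zip (unp 3
    0x2e549913bceb8f5291) (List.zip (unp 3 0x2e549913bceb8f5291) (unz 2 0xaaaaaaaaaaaa)))) ++ []⟩

theorem A2A1A1A1_10243_ceOK : A2A1A1A1_10243_L.ceOK A2A1A1A1_10243_ce = true := by decide +kernel

noncomputable def A2A1A1A1_10342_ce : Ce := ⟨1, 1,
    (List.map (fun p : ℕ × ℕ × ℤ => (⟨[p.1], [p.2.1], [(p.2.2, 1, [])]⟩ : Blk)) (List.zip (unp 2 0xbcfaa9)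
    (List.zip (unp 2 0xbcfaa9) (unz 2 0xaaaaaa)))) ++ []⟩

theorem A2A1A1A1_10342_ceOK : A2A1A1A1_10342_L.ceOK A2A1A1A1_10342_ce = true := by decide +kernel

noncomputable def A3A1A1_ce : Ce := ⟨1, 1,
    (List.map (fun p : ℕ × ℕ × ℤ => (⟨[p.1], [p.2.1], [(p.2.2, 1, [])]⟩ : Blk)) (List.zip (unp 3
    0x276563617e74d992e549913bceb8f5291) (List.zip (unp 3 0x276563617e74d992e549913bceb8f5291) (unz 2
    0xaaaaaaaaaaaaaaaaaaaa)))) ++ []⟩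

theorem A3A1A1_ceOK : A3A1A1_L.ceOK A3A1A1_ce = true := by decide +kernel

noncomputable def A3A1A1_21034_ce : Ce := ⟨1, 1,
    (List.map (fun p : ℕ × ℕ × ℤ => (⟨[p.1], [p.2.1], [(p.2.2, 1, [])]⟩ : Blk)) (List.zip (unp 3
    0x276563617e74d992e549913bceb8f5291) (List.zip (unp 3 0x276563617e74d992e549913bceb8f5291) (unz 2
    0xaaaaaaaaaaaaaaaaaaaa)))) ++ []⟩

theorem A3A1A1_21034_ceOK : A3A1A1_21034_L.ceOK A3A1A1_21034_ce = true := by decide +kernel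

noncomputable def A3A1A1_01243_ce : Ce := ⟨1, 1,
    (List.map (fun p : ℕ × ℕ × ℤ => (⟨[p.1], [p.2.1], [(p.2.2, 1, [])]⟩ : Blk)) (List.zip (unp 3 0x9913bceb8f5291)
    (List.zip (unp 3 0x9913bceb8f5291) (unz 2 0xaaaaaaaaaa)))) ++ []⟩

theorem A3A1A1_01243_ceOK : A3A1A1_01243_L.ceOK A3A1A1_01243_ce = true := by decide +kernel

noncomputable def A3A1A1_21043_ce : Ce := ⟨1, 1,
    (List.map (fun p : ℕ × ℕ × ℤ => (⟨[p.1], [p.2.1], [(p.2.2, 1, [])]⟩ : Blk)) (List.zip (unp 3 0x9913bceb8f5291)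
    (List.zip (unp 3 0x9913bceb8f5291) (unz 2 0xaaaaaaaaaa)))) ++ []⟩

theorem A3A1A1_21043_ceOK : A3A1A1_21043_L.ceOK A3A1A1_21043_ce = true := by decide +kernel

noncomputable def D4A1_ce : Ce := ⟨2, 12,
    (List.map (fun p : ℕ × ℕ × ℤ => (⟨[p.1], [p.2.1], [(p.2.2, 1, [])]⟩ : Blk)) (List.zip (unp 3
    0x2b69676563617e74d992e549913bcf5291) (List.zip (unp 3 0xcdc5bdb5ada59d958d85f9d3664b9535291) (unz 3
    0xc5c5c5c5c5c5c5c5c5c5c5c5c5c5c5c5c5c5c5c5)))) ++ [⟨[4, 22, 24], [4, 5, 6], List.map (fun l => (nth 0 l 0, nth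
    0 l 1, l.drop 2)) (List.map (unz 3) [0x964, 0x128e3, 0x94e72])⟩, ⟨[5, 23, 25], [7, 8, 9], List.map (fun l =>
    (nth 0 l 0, nth 0 l 1, l.drop 2)) (List.map (unz 3) [0x964, 0x128e3, 0x94e72])⟩]⟩

theorem D4A1_ceOK : D4A1_L.ceOK D4A1_ce = true := by decide +kernel

noncomputable def D4A1_01324_ce : Ce := ⟨2, 12,
    (List.map (fun p : ℕ × ℕ × ℤ => (⟨[p.1], [p.2.1], [(p.2.2, 1, [])]⟩ : Blk)) (List.zip (unp 3
    0xd992e549912b8f5291) (List.zip (unp 3 0x23617e74d992b8f5291) (unz 3 0xc5c5c5c5c5c5c5c5c5c5c5c5)))) ++ [⟨[6,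
    14, 16], [6, 7, 8], List.map (fun l => (nth 0 l 0, nth 0 l 1, l.drop 2)) (List.map (unz 3) [0x964, 0x98e3,
    0x4ce72])⟩, ⟨[7, 15, 17], [9, 10, 11], List.map (fun l => (nth 0 l 0, nth 0 l 1, l.drop 2)) (List.map (unz 3)
    [0x964, 0x98e3, 0x4ce72])⟩]⟩

theorem D4A1_01324_ceOK : D4A1_01324_L.ceOK D4A1_01324_ce = true := by decide +kernel

noncomputable def D4A1_21304_ce : Ce := ⟨2, 12,
    (List.map (fun p : ℕ × ℕ × ℤ => (⟨[p.1], [p.2.1], [(p.2.2, 1, [])]⟩ : Blk)) (List.zip (unp 2 0x3fbbcfaa9)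
    (List.zip (unp 2 0x3fbbcfaa9) (unz 3 0xc5c5c5c5c5c5c5c5)))) ++ [⟨[8, 9, 12], [10, 9, 8], List.map (fun l =>
    (nth 0 l 0, nth 0 l 1, l.drop 2)) (List.map (unz 3) [0x964, 0x98e3, 0x11ce72])⟩, ⟨[10, 11, 13], [13, 12, 11],
    List.map (fun l => (nth 0 l 0, nth 0 l 1, l.drop 2)) (List.map (unz 3) [0x964, 0x98e3, 0x11ce72])⟩]⟩

theorem D4A1_21304_ceOK : D4A1_21304_L.ceOK D4A1_21304_ce = true := by decide +kernel

noncomputable def D5A1_ce : Ce := ⟨2, 12,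
    (List.map (fun p : ℕ × ℕ × ℤ => (⟨[p.1], [p.2.1], [(p.2.2, 1, [])]⟩ : Blk)) (List.zip (unp 3
    0x23d168741b77567656f636d617e749913bceb8f5291) (List.zip (unp 3 0x8f45a1d06fdf5ede5ddd5cdc5bdb59913bceb8f5291)
    (unz 3 0xc5c5c5c5c5c5c5c5c5c5c5c5c5c5c5c5c5c5c5c5c5c5c5c5)))) ++ [⟨[10, 20, 28], [10, 11, 12], List.map (fun l
    => (nth 0 l 0, nth 0 l 1, l.drop 2)) (List.map (unz 3) [0x964, 0x128e3, 0x94e72])⟩, ⟨[11, 21, 29], [13, 14,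
    15], List.map (fun l => (nth 0 l 0, nth 0 l 1, l.drop 2)) (List.map (unz 3) [0x964, 0x128e3, 0x94e72])⟩, ⟨[12,
    24, 30], [16, 17, 18], List.map (fun l => (nth 0 l 0, nth 0 l 1, l.drop 2)) (List.map (unz 3) [0x964, 0x128e3,
    0x94e72])⟩, ⟨[13, 25, 31], [19, 20, 21], List.map (fun l => (nth 0 l 0, nth 0 l 1, l.drop 2)) (List.map (unz 3)
    [0x964, 0x128e3, 0x94e72])⟩]⟩

theorem D5A1_ceOK : D5A1_L.ceOK D5A1_ce = true := by decide +kernel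

noncomputable def D5A1_012435_ce : Ce := ⟨2, 12,
    (List.map (fun p : ℕ × ℕ × ℤ => (⟨[p.1], [p.2.1], [(p.2.2, 1, [])]⟩ : Blk)) (List.zip (unp 3
    0xfdf5ede5bdb5ada59d958d85f9d36649913bcf5291) (List.zip (unp 3 0x23d168741bf7d7b79777573716f6d6b697664b9535291)
    (unz 3 0xc5c5c5c5c5c5c5c5c5c5c5c5c5c5c5c5c5c5c5c5c5c5c5c5)))) ++ [⟨[4, 24, 32], [4, 5, 6], List.map (fun l =>
    (nth 0 l 0, nth 0 l 1, l.drop 2)) (List.map (unz 3) [0x964, 0x128e3, 0x99672])⟩, ⟨[5, 25, 33], [7, 8, 9],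
    List.map (fun l => (nth 0 l 0, nth 0 l 1, l.drop 2)) (List.map (unz 3) [0x964, 0x128e3, 0x99672])⟩, ⟨[10, 26,
    34], [14, 15, 16], List.map (fun l => (nth 0 l 0, nth 0 l 1, l.drop 2)) (List.map (unz 3) [0x964, 0x128e3,
    0x99672])⟩, ⟨[11, 27, 35], [17, 18, 19], List.map (fun l => (nth 0 l 0, nth 0 l 1, l.drop 2)) (List.map (unz 3)
    [0x964, 0x128e3, 0x99672])⟩]⟩

theorem D5A1_012435_ceOK : D5A1_012435_L.ceOK D5A1_012435_ce = true := by decide +kernel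

noncomputable def A3A2_ce : Ce := ⟨1, 1,
    (List.map (fun p : ℕ × ℕ × ℤ => (⟨[p.1], [p.2.1], [(p.2.2, 1, [])]⟩ : Blk)) (List.zip (unp 3
    0x74d992e549913bceb8f5291) (List.zip (unp 3 0x74d992e549913bceb8f5291) (unz 2 0xaaaaaaaaaaaaaaa)))) ++ []⟩

theorem A3A2_ceOK : A3A2_L.ceOK A3A2_ce = true := by decide +kernel

noncomputable def A3A2_01243_ce : Ce := ⟨1, 1,
    (List.map (fun p : ℕ × ℕ × ℤ => (⟨[p.1], [p.2.1], [(p.2.2, 1, [])]⟩ : Blk)) (List.zip (unp 3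
    0x74d992e549913bceb8f5291) (List.zip (unp 3 0x74d992e549913bceb8f5291) (unz 2 0xaaaaaaaaaaaaaaa)))) ++ []⟩

theorem A3A2_01243_ceOK : A3A2_01243_L.ceOK A3A2_01243_ce = true := by decide +kernel

noncomputable def A3A2_21034_ce : Ce := ⟨1, 1,
    (List.map (fun p : ℕ × ℕ × ℤ => (⟨[p.1], [p.2.1], [(p.2.2, 1, [])]⟩ : Blk)) (List.zip (unp 3
    0x74d992e549913bceb8f5291) (List.zip (unp 3 0x74d992e549913bceb8f5291) (unz 2 0xaaaaaaaaaaaaaaa)))) ++ []⟩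

theorem A3A2_21034_ceOK : A3A2_21034_L.ceOK A3A2_21034_ce = true := by decide +kernel

noncomputable def A3A2_21043_ce : Ce := ⟨1, 1,
    (List.map (fun p : ℕ × ℕ × ℤ => (⟨[p.1], [p.2.1], [(p.2.2, 1, [])]⟩ : Blk)) (List.zip (unp 3
    0x74d992e549913bceb8f5291) (List.zip (unp 3 0x74d992e549913bceb8f5291) (unz 2 0xaaaaaaaaaaaaaaa)))) ++ []⟩

theorem A3A2_21043_ceOK : A3A2_21043_L.ceOK A3A2_21043_ce = true := by decide +kernel

noncomputable def A4A2_ce : Ce := ⟨1, 1,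
    (List.map (fun p : ℕ × ℕ × ℤ => (⟨[p.1], [p.2.1], [(p.2.2, 1, [])]⟩ : Blk)) (List.zip (unp 3
    0x29676563617e74d992e549913bceb8f5291) (List.zip (unp 3 0x29676563617e74d992e549913bceb8f5291) (unz 2
    0xaaaaaaaaaaaaaaaaaaaaa)))) ++ []⟩

theorem A4A2_ceOK : A4A2_L.ceOK A4A2_ce = true := by decide +kernel

noncomputable def A4A2_012354_ce : Ce := ⟨1, 1,
    (List.map (fun p : ℕ × ℕ × ℤ => (⟨[p.1], [p.2.1], [(p.2.2, 1, [])]⟩ : Blk)) (List.zip (unp 3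
    0x29676563617e74d992e549913bceb8f5291) (List.zip (unp 3 0x29676563617e74d992e549913bceb8f5291) (unz 2
    0xaaaaaaaaaaaaaaaaaaaaa)))) ++ []⟩

theorem A4A2_012354_ceOK : A4A2_012354_L.ceOK A4A2_012354_ce = true := by decide +kernel

noncomputable def A4A2_321045_ce : Ce := ⟨1, 1,
    (List.map (fun p : ℕ × ℕ × ℤ => (⟨[p.1], [p.2.1], [(p.2.2, 1, [])]⟩ : Blk)) (List.zip (unp 3
    0x29676563617e74d992e549913bceb8f5291) (List.zip (unp 3 0x29676563617e74d992e549913bceb8f5291) (unz 2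
    0xaaaaaaaaaaaaaaaaaaaaa)))) ++ []⟩

theorem A4A2_321045_ceOK : A4A2_321045_L.ceOK A4A2_321045_ce = true := by decide +kernel

noncomputable def A4A2_321054_ce : Ce := ⟨1, 1,
    (List.map (fun p : ℕ × ℕ × ℤ => (⟨[p.1], [p.2.1], [(p.2.2, 1, [])]⟩ : Blk)) (List.zip (unp 3
    0x29676563617e74d992e549913bceb8f5291) (List.zip (unp 3 0x29676563617e74d992e549913bceb8f5291) (unz 2
    0xaaaaaaaaaaaaaaaaaaaaa)))) ++ []⟩

theorem A4A2_321054_ceOK : A4A2_321054_L.ceOK A4A2_321054_ce = true := by decide +kernel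

noncomputable def A3A2A1_ce : Ce := ⟨1, 1,
    (List.map (fun p : ℕ × ℕ × ℤ => (⟨[p.1], [p.2.1], [(p.2.2, 1, [])]⟩ : Blk)) (List.zip (unp 3
    0x3b79777573716f6d6b69676563617e74d992e549913bceb8f5291) (List.zip (unp 3
    0x3b79777573716f6d6b69676563617e74d992e549913bceb8f5291) (unz 2 0xaaaaaaaaaaaaaaaaaaaaaaaaaaaaaa)))) ++ []⟩

theorem A3A2A1_ceOK : A3A2A1_L.ceOK A3A2A1_ce = true := by decide +kernel

noncomputable def A3A2A1_210345_ce : Ce := ⟨1, 1,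
    (List.map (fun p : ℕ × ℕ × ℤ => (⟨[p.1], [p.2.1], [(p.2.2, 1, [])]⟩ : Blk)) (List.zip (unp 3
    0x3b79777573716f6d6b69676563617e74d992e549913bceb8f5291) (List.zip (unp 3
    0x3b79777573716f6d6b69676563617e74d992e549913bceb8f5291) (unz 2 0xaaaaaaaaaaaaaaaaaaaaaaaaaaaaaa)))) ++ []⟩

theorem A3A2A1_210345_ceOK : A3A2A1_210345_L.ceOK A3A2A1_210345_ce = true := by decide +kernel

noncomputable def A3A2A1_012435_ce : Ce := ⟨1, 1,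
    (List.map (fun p : ℕ × ℕ × ℤ => (⟨[p.1], [p.2.1], [(p.2.2, 1, [])]⟩ : Blk)) (List.zip (unp 3
    0x3b79777573716f6d6b69676563617e74d992e549913bceb8f5291) (List.zip (unp 3
    0x3b79777573716f6d6b69676563617e74d992e549913bceb8f5291) (unz 2 0xaaaaaaaaaaaaaaaaaaaaaaaaaaaaaa)))) ++ []⟩

theorem A3A2A1_012435_ceOK : A3A2A1_012435_L.ceOK A3A2A1_012435_ce = true := by decide +kernel

noncomputable def A3A2A1_210435_ce : Ce := ⟨1, 1,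
    (List.map (fun p : ℕ × ℕ × ℤ => (⟨[p.1], [p.2.1], [(p.2.2, 1, [])]⟩ : Blk)) (List.zip (unp 3
    0x3b79777573716f6d6b69676563617e74d992e549913bceb8f5291) (List.zip (unp 3
    0x3b79777573716f6d6b69676563617e74d992e549913bceb8f5291) (unz 2 0xaaaaaaaaaaaaaaaaaaaaaaaaaaaaaa)))) ++ []⟩

theorem A3A2A1_210435_ceOK : A3A2A1_210435_L.ceOK A3A2A1_210435_ce = true := by decide +kernel

noncomputable def A5A1_ce : Ce := ⟨1, 1,
    (List.map (fun p : ℕ × ℕ × ℤ => (⟨[p.1], [p.2.1], [(p.2.2, 1, [])]⟩ : Blk)) (List.zip (unp 3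
    0x2b697e74d992e549d992b1237b85ceb8f5291) (List.zip (unp 3 0x2b69676563617e74d992e549913bceb8f5291) (unz 2
    0xaaaaaaaaaaaaaaaaaaaaaa)))) ++ []⟩

theorem A5A1_ceOK : A5A1_L.ceOK A5A1_ce = true := by decide +kernel

noncomputable def A5A1_432105_ce : Ce := ⟨1, 1,
    (List.map (fun p : ℕ × ℕ × ℤ => (⟨[p.1], [p.2.1], [(p.2.2, 1, [])]⟩ : Blk)) (List.zip (unp 3
    0x2b69676576648db90b53e4ce913bceb8f5291) (List.zip (unp 3 0x2b69676563617e74d992e549913bceb8f5291) (unz 2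
    0xaaaaaaaaaaaaaaaaaaaaaa)))) ++ []⟩

theorem A5A1_432105_ceOK : A5A1_432105_L.ceOK A5A1_432105_ce = true := by decide +kernel

noncomputable def A6_ce : Ce := ⟨1, 1,
    (List.map (fun p : ℕ × ℕ × ℤ => (⟨[p.1], [p.2.1], [(p.2.2, 1, [])]⟩ : Blk)) (List.zip (unp 3
    0x74d992e549913bceb8f5291) (List.zip (unp 3 0x74d992e549913bceb8f5291) (unz 2 0xaaaaaaaaaaaaaaa)))) ++ []⟩

theorem A6_ceOK : A6_L.ceOK A6_ce = true := by decide +kernel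

noncomputable def A6_543210_ce : Ce := ⟨1, 1,
    (List.map (fun p : ℕ × ℕ × ℤ => (⟨[p.1], [p.2.1], [(p.2.2, 1, [])]⟩ : Blk)) (List.zip (unp 3
    0x74d992e549913bceb8f5291) (List.zip (unp 3 0x74d992e549913bceb8f5291) (unz 2 0xaaaaaaaaaaaaaaa)))) ++ []⟩

theorem A6_543210_ceOK : A6_543210_L.ceOK A6_543210_ce = true := by decide +kernel

noncomputable def D6_ce : Ce := ⟨2, 12,
    (List.map (fun p : ℕ × ℕ × ℤ => (⟨[p.1], [p.2.1], [(p.2.2, 1, [])]⟩ : Blk)) (List.zip (unp 3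
    0x6ec7b562d9b8bfbeb3b0bf3a5ca9de75ecc9291) (List.zip (unp 3 0x9347a2d0e837efaf6e6e2dedad6d2ecc972a67291) (unz 3
    0xc5c5c5c5c5c5c5c5c5c5c5c5c5c5c5c5c5c5c5c5c5c5)))) ++ [⟨[3, 29, 33], [5, 4, 3], List.map (fun l => (nth 0 l 0,
    nth 0 l 1, l.drop 2)) (List.map (unz 3) [0x964, 0x98e3, 0x1a9672])⟩, ⟨[4, 32, 36], [7, 8, 9], List.map (fun l
    => (nth 0 l 0, nth 0 l 1, l.drop 2)) (List.map (unz 3) [0x964, 0x128e3, 0x94e72])⟩, ⟨[8, 17, 22], [14, 15, 16],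
    List.map (fun l => (nth 0 l 0, nth 0 l 1, l.drop 2)) (List.map (unz 3) [0x964, 0x128e3, 0x94e72])⟩, ⟨[9, 18,
    23], [17, 18, 19], List.map (fun l => (nth 0 l 0, nth 0 l 1, l.drop 2)) (List.map (unz 3) [0x964, 0x128e3,
    0x94e72])⟩, ⟨[20, 21, 28], [26, 27, 28], List.map (fun l => (nth 0 l 0, nth 0 l 1, l.drop 2)) (List.map (unz 3)
    [0x964, 0x128e3, 0x94e72])⟩]⟩

theorem D6_ceOK : D6_L.ceOK D6_ce = true := by decide +kernel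

noncomputable def D6_012354_ce : Ce := ⟨2, 12,
    (List.map (fun p : ℕ × ℕ × ℤ => (⟨[p.1], [p.2.1], [(p.2.2, 1, [])]⟩ : Blk)) (List.zip (unp 3
    0x357365616b7e54991bd33af5291) (List.zip (unp 3 0x3d7b73716f6d6563617244ef5291) (unz 3
    0xc5c5c5c5c5c5c5c5c5c5c5c5c5c5c5c5)))) ++ [⟨[4, 12, 22], [4, 5, 6], List.map (fun l => (nth 0 l 0, nth 0 l 1,
    l.drop 2)) (List.map (unz 3) [0x964, 0x98e3, 0x4ce72])⟩, ⟨[7, 19, 28], [9, 10, 11], List.map (fun l => (nth 0 l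
    0, nth 0 l 1, l.drop 2)) (List.map (unz 3) [0x964, 0x98e3, 0x4ce72])⟩, ⟨[8, 20, 30], [13, 14, 15], List.map
    (fun l => (nth 0 l 0, nth 0 l 1, l.drop 2)) (List.map (unz 3) [0x964, 0x98e3, 0x4ce72])⟩, ⟨[11, 13, 24], [19,
    20, 21], List.map (fun l => (nth 0 l 0, nth 0 l 1, l.drop 2)) (List.map (unz 3) [0x964, 0x98e3, 0x4ce72])⟩,
    ⟨[23, 27, 29], [26, 27, 28], List.map (fun l => (nth 0 l 0, nth 0 l 1, l.drop 2)) (List.map (unz 3) [0x964,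
    0x98e3, 0x4ce72])⟩]⟩

theorem D6_012354_ceOK : D6_012354_L.ceOK D6_012354_ce = true := by decide +kernel

noncomputable def E7_ce : Ce := ⟨6, 72,
    (List.map (fun p : ℕ × ℕ × ℤ => (⟨[p.1], [p.2.1], [(p.2.2, 1, [])]⟩ : Blk)) (List.zip (unp 3
    0x6bb4d2e8f43a0d3ef5d5a37edecdb769d6b72a4ccf5291) (List.zip (unp 3
    0x1cee36fb3d7ebb5bacd5eab53a8d3e9b45a1d3b2b1b535291) (unz 4
    0x908908908908908908908908908908908908908908908908908908908908908908908908)))) ++ [⟨[58, 59], [58, 59],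
    List.map (fun l => (nth 0 l 0, nth 0 l 1, l.drop 2)) (List.map (unz 3) [0x4a47, 0xca47])⟩, ⟨[4, 24, 28], [4, 5,
    6], List.map (fun l => (nth 0 l 0, nth 0 l 1, l.drop 2)) (List.map (unz 3) [0x4a47, 0x4a3c5, 0x2659e4])⟩, ⟨[5,
    25, 29], [7, 8, 9], List.map (fun l => (nth 0 l 0, nth 0 l 1, l.drop 2)) (List.map (unz 3) [0x4a47, 0x4a3c5,
    0x2659e4])⟩, ⟨[7, 15, 17], [11, 12, 13], List.map (fun l => (nth 0 l 0, nth 0 l 1, l.drop 2)) (List.map (unz 3)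
    [0x4a47, 0x263c5, 0x1339e4])⟩, ⟨[8, 12, 16], [14, 15, 16], List.map (fun l => (nth 0 l 0, nth 0 l 1, l.drop 2))
    (List.map (unz 3) [0x4a47, 0x263c5, 0x1339e4])⟩, ⟨[20, 51, 56], [32, 31, 30], List.map (fun l => (nth 0 l 0,
    nth 0 l 1, l.drop 2)) (List.map (unz 3) [0x4a47, 0x263c5, 0x6a59e4])⟩, ⟨[21, 50, 57], [35, 36, 37], List.map
    (fun l => (nth 0 l 0, nth 0 l 1, l.drop 2)) (List.map (unz 3) [0x4a47, 0x4a3c5, 0x2539e4])⟩, ⟨[34, 42, 54],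
    [48, 49, 50], List.map (fun l => (nth 0 l 0, nth 0 l 1, l.drop 2)) (List.map (unz 3) [0x4a47, 0x4a3c5,
    0x2539e4])⟩, ⟨[36, 43, 55], [52, 53, 54], List.map (fun l => (nth 0 l 0, nth 0 l 1, l.drop 2)) (List.map (unz
    3) [0x4a47, 0x4a3c5, 0x2539e4])⟩, ⟨[13, 19, 46, 47, 49], [24, 23, 22, 21, 20], List.map (fun l => (nth 0 l 0,
    nth 0 l 1, l.drop 2)) (List.map (unz 3) [0x4a47, 0xca47, 0x266395, 0x2646395, 0xce533123])⟩, ⟨[14, 18, 44, 45,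
    48], [29, 28, 27, 26, 25], List.map (fun l => (nth 0 l 0, nth 0 l 1, l.drop 2)) (List.map (unz 3) [0x4a47,
    0xca47, 0x266395, 0x2646395, 0xce533123])⟩]⟩

theorem E7_ceOK : E7_L.ceOK E7_ce = true := by decide +kernel

/-- the certificates for `E7_Ls` -/
noncomputable def E7_ces : List Ce :=
    [T0_ce, A1_ce, A1A1_ce, A1A1_10_ce, A2_ce, A2_10_ce, A2A1_ce, A2A1_102_ce, A3_ce, A3_210_ce, A4_ce, A4_3210_ce,
    A1A1A1_ce, A1A1A1_021_ce, A1A1A1_120_ce, A2A1A1_ce, A2A1A1_0132_ce, A2A1A1_1023_ce, A2A1A1_1032_ce, A3A1_ce,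
    A3A1_2103_ce, D4_ce, D4_0132_ce, D4_2130_ce, D5_ce, D5_01243_ce, A4A1_ce, A4A1_32104_ce, A2A2_ce, A2A2_0132_ce,
    A2A2_1032_ce, A2A2_2301_ce, A2A2_2310_ce, A2A2A1_ce, A2A2A1_01324_ce, A2A2A1_10324_ce, A2A2A1_23014_ce,
    A2A2A1_23104_ce, A5_ce, A5_43210_ce, E6_ce, E6_514320_ce, A1A1A1A1_ce, A1A1A1A1_0132_ce, A1A1A1A1_0231_ce,
    A1A1A1A1_1032_ce, A1A1A1A1_1230_ce, A2A1A1A1_ce, A2A1A1A1_01243_ce, A2A1A1A1_01342_ce, A2A1A1A1_10234_ce,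
    A2A1A1A1_10243_ce, A2A1A1A1_10342_ce, A3A1A1_ce, A3A1A1_21034_ce, A3A1A1_01243_ce, A3A1A1_21043_ce, D4A1_ce,
    D4A1_01324_ce, D4A1_21304_ce, D5A1_ce, D5A1_012435_ce, A3A2_ce, A3A2_01243_ce, A3A2_21034_ce, A3A2_21043_ce,
    A4A2_ce, A4A2_012354_ce, A4A2_321045_ce, A4A2_321054_ce, A3A2A1_ce, A3A2A1_210345_ce, A3A2A1_012435_ce,
    A3A2A1_210435_ce, A5A1_ce, A5A1_432105_ce, A6_ce, A6_543210_ce, D6_ce, D6_012354_ce]

theorem E7_ces_ok : List.Forall₂ (fun (L : Lat) c => L.ceOK c = true) E7_Ls E7_ces :=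
    (List.Forall₂.cons T0_ceOK (List.Forall₂.cons A1_ceOK (List.Forall₂.cons A1A1_ceOK (List.Forall₂.cons
    A1A1_10_ceOK (List.Forall₂.cons A2_ceOK (List.Forall₂.cons A2_10_ceOK (List.Forall₂.cons A2A1_ceOK
    (List.Forall₂.cons A2A1_102_ceOK (List.Forall₂.cons A3_ceOK (List.Forall₂.cons A3_210_ceOK (List.Forall₂.cons
    A4_ceOK (List.Forall₂.cons A4_3210_ceOK (List.Forall₂.cons A1A1A1_ceOK (List.Forall₂.cons A1A1A1_021_ceOK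
    (List.Forall₂.cons A1A1A1_120_ceOK (List.Forall₂.cons A2A1A1_ceOK (List.Forall₂.cons A2A1A1_0132_ceOK
    (List.Forall₂.cons A2A1A1_1023_ceOK (List.Forall₂.cons A2A1A1_1032_ceOK (List.Forall₂.cons A3A1_ceOK
    (List.Forall₂.cons A3A1_2103_ceOK (List.Forall₂.cons D4_ceOK (List.Forall₂.cons D4_0132_ceOK (List.Forall₂.cons
    D4_2130_ceOK (List.Forall₂.cons D5_ceOK (List.Forall₂.cons D5_01243_ceOK (List.Forall₂.cons A4A1_ceOK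
    (List.Forall₂.cons A4A1_32104_ceOK (List.Forall₂.cons A2A2_ceOK (List.Forall₂.cons A2A2_0132_ceOK
    (List.Forall₂.cons A2A2_1032_ceOK (List.Forall₂.cons A2A2_2301_ceOK (List.Forall₂.cons A2A2_2310_ceOK
    (List.Forall₂.cons A2A2A1_ceOK (List.Forall₂.cons A2A2A1_01324_ceOK (List.Forall₂.cons A2A2A1_10324_ceOK
    (List.Forall₂.cons A2A2A1_23014_ceOK (List.Forall₂.cons A2A2A1_23104_ceOK (List.Forall₂.cons A5_ceOK
    (List.Forall₂.cons A5_43210_ceOK (List.Forall₂.cons E6_ceOK (List.Forall₂.cons E6_514320_ceOK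
    (List.Forall₂.cons A1A1A1A1_ceOK (List.Forall₂.cons A1A1A1A1_0132_ceOK (List.Forall₂.cons A1A1A1A1_0231_ceOK
    (List.Forall₂.cons A1A1A1A1_1032_ceOK (List.Forall₂.cons A1A1A1A1_1230_ceOK (List.Forall₂.cons A2A1A1A1_ceOK
    (List.Forall₂.cons A2A1A1A1_01243_ceOK (List.Forall₂.cons A2A1A1A1_01342_ceOK (List.Forall₂.cons
    A2A1A1A1_10234_ceOK (List.Forall₂.cons A2A1A1A1_10243_ceOK (List.Forall₂.cons A2A1A1A1_10342_ceOK
    (List.Forall₂.cons A3A1A1_ceOK (List.Forall₂.cons A3A1A1_21034_ceOK (List.Forall₂.cons A3A1A1_01243_ceOK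
    (List.Forall₂.cons A3A1A1_21043_ceOK (List.Forall₂.cons D4A1_ceOK (List.Forall₂.cons D4A1_01324_ceOK
    (List.Forall₂.cons D4A1_21304_ceOK (List.Forall₂.cons D5A1_ceOK (List.Forall₂.cons D5A1_012435_ceOK
    (List.Forall₂.cons A3A2_ceOK (List.Forall₂.cons A3A2_01243_ceOK (List.Forall₂.cons A3A2_21034_ceOK
    (List.Forall₂.cons A3A2_21043_ceOK (List.Forall₂.cons A4A2_ceOK (List.Forall₂.cons A4A2_012354_ceOK
    (List.Forall₂.cons A4A2_321045_ceOK (List.Forall₂.cons A4A2_321054_ceOK (List.Forall₂.cons A3A2A1_ceOK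
    (List.Forall₂.cons A3A2A1_210345_ceOK (List.Forall₂.cons A3A2A1_012435_ceOK (List.Forall₂.cons
    A3A2A1_210435_ceOK (List.Forall₂.cons A5A1_ceOK (List.Forall₂.cons A5A1_432105_ceOK (List.Forall₂.cons A6_ceOK
    (List.Forall₂.cons A6_543210_ceOK (List.Forall₂.cons D6_ceOK (List.Forall₂.cons D6_012354_ceOK
    List.Forall₂.nil))))))))))))))))))))))))))))))))))))))))))))))))))))))))))))))))))))))))))))))))


end Cfsg.Agent.LV.W
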