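import Cfsg.Agent.LV.W.E8a
import Cfsg.Agent.LV.W.C7
import Cfsg.Agent.LV.W.L6
import Cfsg.Agent.LV.W.L7a
import Cfsg.Agent.LV.W.L7b
import Cfsg.Agent.LV.W.L7c

/-! LV/W: generated data (helper25) -/

set_option autoImplicit false
set_option maxRecDepth 100000

namespace Cfsg.Agent.LV.W

/-- the nodes of the proper cosets -/
noncomputable def E8_Ls : List Lat :=
    [T0_L, A1_L, A1A1_L, A1A1_10_L, A2_L, A2_10_L, A2A1_L, A2A1_102_L, A3_L, A3_210_L, A4_L, A4_3210_L, A1A1A1_L,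
    A1A1A1_021_L, A1A1A1_120_L, A2A1A1_L, A2A1A1_0132_L, A2A1A1_1023_L, A2A1A1_1032_L, A3A1_L, A3A1_2103_L, D4_L,
    D4_0132_L, D4_2130_L, D5_L, D5_01243_L, A4A1_L, A4A1_32104_L, A2A2_L, A2A2_0132_L, A2A2_1032_L, A2A2_2301_L,
    A2A2_2310_L, A2A2A1_L, A2A2A1_01324_L, A2A2A1_10324_L, A2A2A1_23014_L, A2A2A1_23104_L, A5_L, A5_43210_L, E6_L,
    E6_514320_L, A1A1A1A1_L, A1A1A1A1_0132_L, A1A1A1A1_0231_L, A1A1A1A1_1032_L, A1A1A1A1_1230_L, A2A1A1A1_L,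
    A2A1A1A1_01243_L, A2A1A1A1_01342_L, A2A1A1A1_10234_L, A2A1A1A1_10243_L, A2A1A1A1_10342_L, A3A1A1_L,
    A3A1A1_21034_L, A3A1A1_01243_L, A3A1A1_21043_L, D4A1_L, D4A1_01324_L, D4A1_21304_L, D5A1_L, D5A1_012435_L,
    A3A2_L, A3A2_01243_L, A3A2_21034_L, A3A2_21043_L, A4A2_L, A4A2_012354_L, A4A2_321045_L, A4A2_321054_L,
    A3A2A1_L, A3A2A1_210345_L, A3A2A1_012435_L, A3A2A1_210435_L, A5A1_L, A5A1_432105_L, A6_L, A6_543210_L, D6_L,
    D6_012354_L, E7_L, A4A1A1_L, A4A1A1_012354_L, A4A1A1_321045_L, A4A1A1_321054_L, A2A2A1A1_L, A2A2A1A1_013245_L,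
    A2A2A1A1_012354_L, A2A2A1A1_013254_L, A2A2A1A1_103245_L, A2A2A1A1_103254_L, A2A2A1A1_230145_L,
    A2A2A1A1_231045_L, A2A2A1A1_230154_L, A2A2A1A1_231054_L, E6A1_L, E6A1_5143206_L, D4A2_L, D4A2_012354_L,
    D4A2_013245_L, D4A2_013254_L, D4A2_213045_L, D4A2_213054_L, D5A2_L, D5A2_0123465_L, D5A2_0124356_L,
    D5A2_0124365_L, A3A3_L, A3A3_012543_L, A3A3_210543_L, A3A3_345012_L, A3A3_345210_L, A4A3_L, A4A3_0123654_L,
    A4A3_3210456_L, A4A3_3210654_L, A4A2A1_L, A4A2A1_3210456_L, A4A2A1_0123546_L, A4A2A1_3210546_L, A6A1_L,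
    A6A1_5432106_L, A7_L, A7_6543210_L, D7_L, D7_0123465_L]

theorem E8_Ls_ok : ∀ L ∈ E8_Ls, L.Ok :=
    (all_ok_cons T0_ok (all_ok_cons A1_ok (all_ok_cons A1A1_ok (all_ok_cons A1A1_10_ok (all_ok_cons A2_ok
    (all_ok_cons A2_10_ok (all_ok_cons A2A1_ok (all_ok_cons A2A1_102_ok (all_ok_cons A3_ok (all_ok_cons A3_210_ok
    (all_ok_cons A4_ok (all_ok_cons A4_3210_ok (all_ok_cons A1A1A1_ok (all_ok_cons A1A1A1_021_ok (all_ok_cons
    A1A1A1_120_ok (all_ok_cons A2A1A1_ok (all_ok_cons A2A1A1_0132_ok (all_ok_cons A2A1A1_1023_ok (all_ok_cons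
    A2A1A1_1032_ok (all_ok_cons A3A1_ok (all_ok_cons A3A1_2103_ok (all_ok_cons D4_ok (all_ok_cons D4_0132_ok
    (all_ok_cons D4_2130_ok (all_ok_cons D5_ok (all_ok_cons D5_01243_ok (all_ok_cons A4A1_ok (all_ok_cons
    A4A1_32104_ok (all_ok_cons A2A2_ok (all_ok_cons A2A2_0132_ok (all_ok_cons A2A2_1032_ok (all_ok_cons
    A2A2_2301_ok (all_ok_cons A2A2_2310_ok (all_ok_cons A2A2A1_ok (all_ok_cons A2A2A1_01324_ok (all_ok_cons
    A2A2A1_10324_ok (all_ok_cons A2A2A1_23014_ok (all_ok_cons A2A2A1_23104_ok (all_ok_cons A5_ok (all_ok_cons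
    A5_43210_ok (all_ok_cons E6_ok (all_ok_cons E6_514320_ok (all_ok_cons A1A1A1A1_ok (all_ok_cons A1A1A1A1_0132_ok
    (all_ok_cons A1A1A1A1_0231_ok (all_ok_cons A1A1A1A1_1032_ok (all_ok_cons A1A1A1A1_1230_ok (all_ok_cons
    A2A1A1A1_ok (all_ok_cons A2A1A1A1_01243_ok (all_ok_cons A2A1A1A1_01342_ok (all_ok_cons A2A1A1A1_10234_ok
    (all_ok_cons A2A1A1A1_10243_ok (all_ok_cons A2A1A1A1_10342_ok (all_ok_cons A3A1A1_ok (all_ok_cons
    A3A1A1_21034_ok (all_ok_cons A3A1A1_01243_ok (all_ok_cons A3A1A1_21043_ok (all_ok_cons D4A1_ok (all_ok_cons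
    D4A1_01324_ok (all_ok_cons D4A1_21304_ok (all_ok_cons D5A1_ok (all_ok_cons D5A1_012435_ok (all_ok_cons A3A2_ok
    (all_ok_cons A3A2_01243_ok (all_ok_cons A3A2_21034_ok (all_ok_cons A3A2_21043_ok (all_ok_cons A4A2_ok
    (all_ok_cons A4A2_012354_ok (all_ok_cons A4A2_321045_ok (all_ok_cons A4A2_321054_ok (all_ok_cons A3A2A1_ok
    (all_ok_cons A3A2A1_210345_ok (all_ok_cons A3A2A1_012435_ok (all_ok_cons A3A2A1_210435_ok (all_ok_cons A5A1_ok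
    (all_ok_cons A5A1_432105_ok (all_ok_cons A6_ok (all_ok_cons A6_543210_ok (all_ok_cons D6_ok (all_ok_cons
    D6_012354_ok (all_ok_cons E7_ok (all_ok_cons A4A1A1_ok (all_ok_cons A4A1A1_012354_ok (all_ok_cons
    A4A1A1_321045_ok (all_ok_cons A4A1A1_321054_ok (all_ok_cons A2A2A1A1_ok (all_ok_cons A2A2A1A1_013245_ok
    (all_ok_cons A2A2A1A1_012354_ok (all_ok_cons A2A2A1A1_013254_ok (all_ok_cons A2A2A1A1_103245_ok (all_ok_cons
    A2A2A1A1_103254_ok (all_ok_cons A2A2A1A1_230145_ok (all_ok_cons A2A2A1A1_231045_ok (all_ok_cons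
    A2A2A1A1_230154_ok (all_ok_cons A2A2A1A1_231054_ok (all_ok_cons E6A1_ok (all_ok_cons E6A1_5143206_ok
    (all_ok_cons D4A2_ok (all_ok_cons D4A2_012354_ok (all_ok_cons D4A2_013245_ok (all_ok_cons D4A2_013254_ok
    (all_ok_cons D4A2_213045_ok (all_ok_cons D4A2_213054_ok (all_ok_cons D5A2_ok (all_ok_cons D5A2_0123465_ok
    (all_ok_cons D5A2_0124356_ok (all_ok_cons D5A2_0124365_ok (all_ok_cons A3A3_ok (all_ok_cons A3A3_012543_ok
    (all_ok_cons A3A3_210543_ok (all_ok_cons A3A3_345012_ok (all_ok_cons A3A3_345210_ok (all_ok_cons A4A3_ok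
    (all_ok_cons A4A3_0123654_ok (all_ok_cons A4A3_3210456_ok (all_ok_cons A4A3_3210654_ok (all_ok_cons A4A2A1_ok
    (all_ok_cons A4A2A1_3210456_ok (all_ok_cons A4A2A1_0123546_ok (all_ok_cons A4A2A1_3210546_ok (all_ok_cons
    A6A1_ok (all_ok_cons A6A1_5432106_ok (all_ok_cons A7_ok (all_ok_cons A7_6543210_ok (all_ok_cons D7_ok
    (all_ok_cons D7_0123465_ok
    all_ok_nil))))))))))))))))))))))))))))))))))))))))))))))))))))))))))))))))))))))))))))))))))))))))))))))))))))))))))))))))))))))))))))))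

noncomputable def E8_tbl : List (List (ℕ × List ℕ)) := List.map (List.map unE)
    (List.map (fun n => unp 6 (Nat.shiftRight n 32)) [0x139da6b99, 0x4049afe92676, 0x4449bc0c7fdf,
    0xc408e8408eb18b5015, 0x48497b4de89c, 0x29011f0808f587e4b3a, 0xc848e8848e961dfbf5, 0x38901a78480d3b6a4f24c,
    0x4c499e1cd9a0, 0xcc08e8c08ed71d4026, 0x29891f0c48fe6e42958, 0x38189a780c4d3c1862be9, 0x29911f0c88ff96ac956,
    0x93203520c80d46fbf0589, 0x923135208c4d403994116, 0xb132046284c811862ec5607, 0x5049b59e3dcc,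
    0xd008e9008ef718b6c4, 0xd048e9048e889174dd, 0xd4013538500d4e4103534410d4d4103531040d482949e43,
    0xd088e9088ea3cbed84, 0x3a101a79080d3778ad513, 0xd4123538904d4e4213534850d4d4213531084d43c3aa6da,
    0x490481198a09023304120467d04811810d8408c, 0x2a191f10c8f70f2f30e, 0x38219a7810cd3c95f0a7c,
    0x943135210c4d46ac17280, 0x2808628ccc10c51987dfadf3, 0x943235210c8d468aef9f1, 0xb432046290c8118fbb43370,
    0x2c82648cdc90c519ba118a3362134466c84628cd508c519ea62c4a6, 0x3282640aee104c815d791cfbdf, 0x54494d6637b0,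
    0xd408e9408e08a425ba, 0xd448e9448e72ba15b8, 0xd5013538540d4e5103534414d4d5103531440d42294c925,
    0xd488e9488e0b93a5af, 0x3a901a79480d3bce4d7f2, 0xd5123538944d4e5213534854d4d5213531484d454e7766b,
    0x494481198a89023305120467d448118da5aa728, 0xd4c8e94c8e3fe0a111,
    0xd5033538d40d4e5303534c14d4d53035314c0d4106019f6, 0x3a989a794c4d364221675,
    0x4940c51982818a3315031467d40c5186140fd9a, 0x3a991a794c8d32886ad88, 0x28a6408ccd4c8119eeccd7c4,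
    0x28a4628ccd48c5194ad55be3, 0x36a2640aee944c815d9f367ed2, 0x2aa11f1508f56b5f3ed, 0x382a1a78150d36021d68f,
    0x38aa1a78550d37680e0ef, 0x484151198082a23311054467c415118d75d3bf5, 0x392a1a78950d377d40afd,
    0x3e8a408cc08a408d40a8408d7d508119f2a10233d2054467aa8408cf15081192546c85f,
    0x48855119810aa23312154467c855118a36b1a9e,
    0x90514815e94514815e94550815e90550815e8c550815e88481515e88550815e84550815ee6cf32bd, 0x9543352150cd4a43a47da,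
    0x280a868ccc150d19090bb0c9, 0xb5431462950c518794c8f22, 0x360a862aee8150c55d9593a57b, 0xb5432462950c9186be730e3,
    0x9d50c815e9950c815e8c3a89cc, 0x324268aaee084d155d83ef5f0a, 0xa550c841a2a150c841a2c3ec711d, 0x5849a7141e28,
    0xd808e9808e0dbffba4, 0xd848e9848e5b3a10ae, 0xd6013538580d4e6103534418d4d6103531840d4ecef91e3,
    0xd888e9888efc79b605, 0x3b101a79880d3acafa42f, 0xd6123538984d4e6213534858d4d6213531884d4ceb5795e,
    0x498481198b09023306120467d84811809ae04f4, 0xd8c8e98c8ed842cd3c,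
    0xd6033538d80d4e6303534c18d4d63035318c0d4114f796a, 0x3b189a798c4d324989795,
    0x4980c51983018a3316031467d80c518a6332c2c, 0x3b191a798c8d33825b403, 0x28c6408ccd8c811965ada464,
    0x28c4628ccd88c5199e53a5fe, 0x36c2640aee984c815d692a72f3, 0xd908e9908ede5790d3,
    0xd6043539180d4e6403535018d4d6403531900d493e0d584, 0xd6143539184d4e6413535058d4d6413531904d4734b33be,
    0xb505811ab905811aad81051ab118051ab058111ab851811ab985011ab585011ab190051aad01851ab859011ab050191ab184111ab918411ab990411ab104191ab590411aac41911aad85011ab118411ab190411aad05811aad90411aa990411a3bd146da,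
    0xd6243539188d4e6423535098d4d6423531908d4d02e5f3b, 0x499081198b21023306420467d9081182b154f0b,
    0xb509851ab909851aad85091ab118491ab098511ab891851ab989051ab589051ab190491aad05891ab899051ab090591ab188511ab918851ab990851ab108591ab590851aac85911aad89051ab118851ab190851aad09851aad90851aa990851a99f7356d,
    0xcd850815ed1184815ed1904815ecd058815ecd904815ec9904815ec1850815ec5184815ec5904815ec1058815ec1904815ebd904815ee873acb3,
    0x3b219a7990cd300fc7688, 0x49810d1983021a3316043467d810d1819e2f5c7, 0x28c8628ccd90c519f9174f2a,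
    0xe1810c55edd810c55ed9810c55ed5810c55e01f0a72a, 0x28c8648ccd90c919e975edde, 0x36c8640aee990c815d1b5506af,
    0xe9904c95eed890c55eed908c55ee9884d15ee9908c55ee5908c55e610e2ad7, 0xf5904c81a2f1904c81a273a36b68,
    0x2b291f1948fd015dc84, 0x38329a78194d3c43f27b4, 0x38b29a78594d3344c040f,
    0x4841951980832a3311065467c419518136b1879, 0x39329a78994d3a511a5fe,
    0x3eac408cc0ac408d40ca408d7d948119f3290233d2065467aca408cf1948119c13009d3,
    0x48859519810b2a3312165467c859518a402e760,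
    0x90558815e94558815e94594815e90594815e8c594815e88481955e88594815e84594815e2c3822d0, 0x39b29a78d94d3640b32f2,
    0x48c1951981832a3313065467cc1951866ddd99f,
    0x3eac628cc0ac628d40ca628d7d94c519f3298a33d3165467aca628cf194c519da2fd850,
    0x90158c55e94158c55e94194c55e90194c55e8c194c55e880c5955e88194c55e84194c55e31b98ac1,
    0x3eac648cc0ac648d40ca648d7d94c919f3299233d3265467aca648cf194c91920a2f1b1,
    0x20b29902bf0194c815ffd94c815ef994c815e26b6f950, 0x20b2918abf01948c55ffd948c55ef9948c55e2df553ce,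
    0x8aca2640d1c465132068e1b2899034709944c81a3ef443eaf, 0x96543521950d491bfbd1a, 0x280ca88ccc1951190eb7a277,
    0x282ca88ccc595119ba0be117, 0xe0419515edc419515ed8419515ed4419515e416e3ac7, 0x284ca88ccc99511905da6d69,
    0x209032a2bff9032a2bd00819515ff8819515e24610d70, 0xe0859515edc859515ed8859515ed4859515ead51b54d,
    0x92240ca8d1c812065468e389032a34718481951a3a15439dd, 0xb65434629950d18391e9f7b, 0x360ca86aee81950d5d7c7cb2a5,
    0x9d950c55e99950c55e85c56c44, 0x25832a18b47281950c5a34c492a8b, 0x9d950c95e99950c95e80450d5f,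
    0x26b2a19034731950c81a343ab25a1, 0x27909a2b3473884d159a3bbfdf3d9, 0x141950c841e76e239857, 0x5c49676acf78,
    0xdc08e9c08ef8a2c6b6, 0xdc48e9c48ec7621349, 0xd70135385c0d4e710353441cd4d7103531c40d48307e972,
    0xdc88e9c88e4e78d873, 0x3b901a79c80d37d9065f3, 0xd71235389c4d4e721353485cd4d7213531c84d4f2ddac3a,
    0x49c481198b89023307120467dc48118fe0fb87b, 0xdcc8e9cc8e5a94d6cb,
    0xd7033538dc0d4e7303534c1cd4d7303531cc0d4c0b5a0f8, 0x3b989a79cc4d32a8fbc62,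
    0x49c0c51983818a3317031467dc0c5184edc5a87, 0x3b991a79cc8d35275b498, 0x28e6408ccdcc8119a555fff9,
    0x28e4628ccdc8c519f0df0ff4, 0x36e2640aee9c4c815d4c0ccb86, 0xdd08e9d08eb147516e,
    0xd70435391c0d4e740353501cd4d7403531d00d4b6b3d60e, 0xd71435391c4d4e741353505cd4d7413531d04d452f69a00,
    0xb505c11ab905c11aadc1051ab11c051ab05c111ab851c11ab9c5011ab5c5011ab1d0051aad01c51ab85d011ab0501d1ab1c4111ab91c411ab9d0411ab1041d1ab5d0411aac41d11aadc5011ab11c411ab1d0411aad05c11aadd0411aa9d0411a1b0ad827,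
    0xd72435391c8d4e742353509cd4d7423531d08d41b6f516c, 0x49d081198ba1023307420467dd08118bda9c6ae,
    0xb509c51ab909c51aadc5091ab11c491ab09c511ab891c51ab9c9051ab5c9051ab1d0491aad05c91ab89d051ab0905d1ab1c8511ab91c851ab9d0851ab1085d1ab5d0851aac85d11aadc9051ab11c851ab1d0851aad09c51aadd0851aa9d0851ab05edcb5,
    0xcdc50815ed11c4815ed1d04815ecd05c815ecdd04815ec9d04815ec1c50815ec51c4815ec5d04815ec105c815ec1d04815ebdd04815e90f7f65d,
    0x3ba19a79d0cd3b7d00f27, 0x49c10d1983821a3317043467dc10d18b3242728, 0x28e8628ccdd0c51922ef6360,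
    0xe1c10c55eddc10c55ed9c10c55ed5c10c55e999557c0, 0x28e8648ccdd0c9195d8feebd, 0x36e8640aee9d0c815d32ef9d3e,
    0xe9d04c95eedc90c55eedd08c55ee9c84d15ee9d08c55ee5d08c55ed0a49aba, 0xf5d04c81a2f1d04c81a24100ae79,
    0xdd48e9d48e9da78c5d, 0xd70535395c0d4e750353541cd4d7503531d40d4725fb830,
    0xd71535395c4d4e751353545cd4d7513531d44d4f6ab1590,
    0xb545c11ab945c11aadc1451ab15c051ab05c151ab855c11ab9c5411ab5c5411ab1d4051aad41c51ab85d411ab0541d1ab1c4151ab95c411ab9d4411ab1441d1ab5d4411aac41d51aadc5411ab15c411ab1d4411aad45c11aadd4411aa9d4411a34acbc1a,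
    0xd72535395c8d4e752353549cd4d7523531d48d49c62839e, 0x49d481198ba9023307520467dd48118f3691a42,
    0xb549c51ab949c51aadc5491ab15c491ab09c551ab895c51ab9c9451ab5c9451ab1d4491aad45c91ab89d451ab0945d1ab1c8551ab95c851ab9d4851ab1485d1ab5d4851aac85d51aadc9451ab15c851ab1d4851aad49c51aadd4851aa9d4851a2c211b8b,
    0xcdc54815ed15c4815ed1d44815ecd45c815ecdd44815ec9d44815ec1c54815ec55c4815ec5d44815ec145c815ec1d44815ebdd44815e33315600,
    0xd73535395ccd4e75335354dcd4d7533531d4cd4833d2834,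
    0xb54dc11ab94dc11aadc14d1ab15c0d1ab0dc151ab8d5c11ab9cd411ab5cd411ab1d40d1aad41cd1ab8dd411ab0d41d1ab1cc151ab95cc11ab9d4c11ab14c1d1ab5d4c11aacc1d51aadcd411ab15cc11ab1d4c11aad4dc11aadd4c11aa9d4c11a26cce543,
    0x49d4c5198ba98a3307531467dd4c518b80de775,
    0xcdc14c55ed15c0c55ec1c14c55ec55c0c55ed1d40c55ecd41cc55ec5d40c55ec141cc55ecdd40c55ec9d40c55ec1d40c55ebdd40c55e386acc48,
    0x49d4c9198ba9923307532467dd4c918ffc7a48c, 0xe1d4c815ed9d4c815eddd4c815ed5d4c815edaf771e4,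
    0xe1d48c55ed9d48c55eddd48c55ed5d48c55e4f89633f, 0xa8ea2640d1d375132068e93a899034745d44c81a36236773a,
    0x3baa1a79d50d3256384e2, 0x49c151198382a23317054467dc151180c916ab9, 0x49c55119838aa23317154467dc55118d55f9078,
    0xcdc05515ec1c05515ed05c1515ec45c1515ed1c41515ec5c41515ecc41d515ec041d515ecdc41515ec1c41515ec9c41515ebdc41515eb0a9b7b8,
    0x49c951198392a23317254467dc95118b6678538,
    0x91d14815e95d14815e95d50815e91d50815e8dd50815e89c81515e89d50815e85d50815ea03b0637,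
    0xcdc49515ec1c49515ed09c5515ec49c5515ed1c85515ec5c85515ecc85d515ec085d515ecdc85515ec1c85515ec9c85515ebdc85515e2134d96e,
    0xbae28a40d1de71452068edb8a29034771c51481a3bce2a840d1dd71542068ee38aa103476dc55081a3b4e2a840d1d871205468ecb8aa1034759c48151a3b0e2a840d1d771542068eb38aa1034755c55081a36bb4efcb,
    0x28ea868ccdd50d1979b36b25, 0xe1c150d5eddc150d5ed9c150d5ed5c150d5edda0f848, 0x36ea862aee9d50c55df4656fd0,
    0xa8e0a862d1d270543168e9b82a18b4745c150c5a35283d850, 0x36ea864aee9d50c95d71857da3,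
    0x25baa19034729d50c81a351e33afa, 0xf5c84d15a2f1c84d15a28a8a0af9, 0x303aa19083cf7dd50c841e73f43f481,
    0x2bb11f1d88f18ab479e, 0x383b1a781d8d3dee33736, 0x38bb1a785d8d3fba5643e,
    0x4841d9198083b23311076467c41d9189e74f8a2, 0x393b1a789d8d35f3a7986,
    0x3ece408cc0ce408d40ec408d7dd88119f3b10233d2076467aec408cf1d881199164c583,
    0x4885d919810bb23312176467c85d9188b2cadac,
    0x9059c815e9459c815e945d8815e905d8815e8c5d8815e88481d95e885d8815e845d8815ee7043c37, 0x39bb1a78dd8d34ce5d6e5,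
    0x48c1d9198183b23313076467cc1d91845dc63cc,
    0x3ece628cc0ce628d40ec628d7dd8c519f3b18a33d3176467aec628cf1d8c519f1438875,
    0x9019cc55e9419cc55e941d8c55e901d8c55e8c1d8c55e880c5d95e881d8c55e841d8c55e0b390c77,
    0x3ece648cc0ce648d40ec648d7dd8c919f3b19233d3276467aec648cf1d8c9196ac182bf,
    0x20bb1902bf01d8c815ffdd8c815ef9d8c815e8ae576f1, 0x20bb118abf01d88c55ffdd88c55ef9d88c55ea677e51d,
    0x8aec2640d1c476132068e1bb099034709d84c81a31a05e73d, 0x3a3b1a791d8d3cf44bcbf,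
    0x4901d9198203b23314076467d01d918619f4ae6, 0x4905d919820bb23314176467d05d918d063ab5d,
    0xcd005d95ec1005d95ed0501d95ec4501d95ed1041d95ec5041d95ecc411d95ec0411d95ecd041d95ec1041d95ec9041d95ebd041d95ee812035e,
    0x4909d9198213b23314276467d09d91880be676d,
    0x9119c815e9519c815e951d8815e911d8815e8d1d8815e89081d95e891d8815e851d8815eede8c857,
    0xcd049d95ec1049d95ed0905d95ec4905d95ed1085d95ec5085d95ecc851d95ec0851d95ecd085d95ec1085d95ec9085d95ebd085d95ed6105267,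
    0xba82ce40d1de41672068eda0b39034771059c81a3bc82ec40d1dd41762068ee20bb103476d05d881a3b482ec40d1d841207668eca0bb10347590481d9a3b082ec40d1d741762068eb20bb103475505d881a34f48ba02,
    0x3ece868cc0ce868d40ec868d7dd90d19f3b21a33d4376467aec868cf1d90d19b3ddaf86,
    0x9019d0d5e9419d0d5e941d90d5e901d90d5e8c1d90d5e8810dd95e881d90d5e841d90d5ee072ca93,
    0x20bb218abf01d90c55ffdd90c55ef9d90c55e5835947c, 0x920ec862d1c707643168e403b218b47181d90c5a38ad32e13,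
    0x20bb2192bf01d90c95ffdd90c95ef9d90c95e7dbbb81f, 0x8aec8640d1c476432068e1bb219034709d90c81a38cfb97fd,
    0xc8ec8264d1e376413268f33b1218b4795d890c5a3ccec8462d1e576423168f23b109a3478dd884d1a3c8ec8462d1e376423168f13b2118b4785d908c5a38de1e3db,
    0xd4ec82640f3e9764132079f43b209903cf9dd904c81e75b7e4f81, 0x97653521d94d48fb8219c, 0x280eca8ccc1d951956d69070,
    0x282eca8ccc5d9519aca063e7, 0xe041d955edc41d955ed841d955ed441d955e5f4f00bf, 0x284eca8ccc9d95196a623c48,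
    0x20903b2abff903b2abd0081d955ff881d955e4ffe45f8, 0xe085d955edc85d955ed885d955ed485d955ed3f89e09,
    0x92240ecad1c812076568e38903b2b4718481d95a3046c63dd, 0x286eca8cccdd9519de513c94,
    0xe0c1d955edcc1d955ed8c1d955ed4c1d955eb4de9aae, 0x2098bb2abff98bb2abd00c5d955ff8c5d955e2b7bb19f,
    0x92062ecad1c803176568e3818bb2b47180c5d95a36fde85b4, 0x20993b2abff993b2abd00c9d955ff8c9d955ec342b05d,
    0xdcace640d1ef56732068f7bb2990347b9d94c81a3daeca640d1ec32076568f63b2990347add94c81a36d51d18f,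
    0xdcace462d1ef56723168f7bb2918b47b9d948c5a3daeca462d1ec23176568f63b2918b47add948c5a32a7ecfbf,
    0xe6eca2640f3f2765132079f8bb289903cfc1d944c81e74b1a62a0, 0xb76544629d951185d7b5ee7,
    0x360eca8aee81d9515da90eb979, 0x362eca8aee85d9515dc2454bd0,
    0xa820eca8d1d210765468e9883b2a3474441d951a39d1caed4, 0x364eca8aee89d9515d0793e1e9,
    0x8a40eca8d1c320765468e2103b2a3470881d951a352b3de59, 0xa842eca8d1d221765468e990bb2a3474485d951a3f988963e,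
    0xee240eca8f3f6120765479fa8903b2a3cfd0481d951e72a6bf8f4, 0x9dd950d5e99d950d5e37a204be,
    0x2583b2a1b47281d950da3d5fa5026, 0x26bb2a18b4731d950c5a3da977fd8, 0x3c83b2a18bcfe01d950c5e70f179a6d,
    0x26bb2a1934731d950c9a39217c8e0, 0x3dbb2a1903cfe9d950c81e7f3f03133, 0x3e909a2b3bcff084d159de7894927ef,
    0xa60e4ee])

theorem E8_disp : dispOK 8 E8.AL E8_Ls E8_tbl = true := by decide +kernel

noncomputable def A4A1A1_ce : Ce := ⟨1, 1,
    (List.map (fun p : ℕ × ℕ × ℤ => (⟨[p.1], [p.2.1], [(p.2.2, 1, [])]⟩ : Blk)) (List.zip (unp 3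
    0x377573716f6d6b69676563617e74d992e549913bceb8f5291) (List.zip (unp 3
    0x377573716f6d6b69676563617e74d992e549913bceb8f5291) (unz 2 0xaaaaaaaaaaaaaaaaaaaaaaaaaaaa)))) ++ []⟩

theorem A4A1A1_ceOK : A4A1A1_L.ceOK A4A1A1_ce = true := by decide +kernel

noncomputable def A4A1A1_012354_ce : Ce := ⟨1, 1,
    (List.map (fun p : ℕ × ℕ × ℤ => (⟨[p.1], [p.2.1], [(p.2.2, 1, [])]⟩ : Blk)) (List.zip (unp 3
    0xd992e549913bceb8f5291) (List.zip (unp 3 0xd992e549913bceb8f5291) (unz 2 0xaaaaaaaaaaaaaa)))) ++ []⟩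

theorem A4A1A1_012354_ceOK : A4A1A1_012354_L.ceOK A4A1A1_012354_ce = true := by decide +kernel

noncomputable def A4A1A1_321045_ce : Ce := ⟨1, 1,
    (List.map (fun p : ℕ × ℕ × ℤ => (⟨[p.1], [p.2.1], [(p.2.2, 1, [])]⟩ : Blk)) (List.zip (unp 3
    0x377573716f6d6b69676563617e74d992e549913bceb8f5291) (List.zip (unp 3
    0x377573716f6d6b69676563617e74d992e549913bceb8f5291) (unz 2 0xaaaaaaaaaaaaaaaaaaaaaaaaaaaa)))) ++ []⟩

theorem A4A1A1_321045_ceOK : A4A1A1_321045_L.ceOK A4A1A1_321045_ce = true := by decide +kernel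

noncomputable def A4A1A1_321054_ce : Ce := ⟨1, 1,
    (List.map (fun p : ℕ × ℕ × ℤ => (⟨[p.1], [p.2.1], [(p.2.2, 1, [])]⟩ : Blk)) (List.zip (unp 3
    0xd992e549913bceb8f5291) (List.zip (unp 3 0xd992e549913bceb8f5291) (unz 2 0xaaaaaaaaaaaaaa)))) ++ []⟩

theorem A4A1A1_321054_ceOK : A4A1A1_321054_L.ceOK A4A1A1_321054_ce = true := by decide +kernel

noncomputable def A2A2A1A1_ce : Ce := ⟨1, 1,
    (List.map (fun p : ℕ × ℕ × ℤ => (⟨[p.1], [p.2.1], [(p.2.2, 1, [])]⟩ : Blk)) (List.zip (unp 3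
    0x23d168741bf7d7b79777573716f6d6b69676563617e74d992e549913bceb8f5291) (List.zip (unp 3
    0x23d168741bf7d7b79777573716f6d6b69676563617e74d992e549913bceb8f5291) (unz 2
    0xaaaaaaaaaaaaaaaaaaaaaaaaaaaaaaaaaaaa)))) ++ []⟩

theorem A2A2A1A1_ceOK : A2A2A1A1_L.ceOK A2A2A1A1_ce = true := by decide +kernel

noncomputable def A2A2A1A1_013245_ce : Ce := ⟨1, 1,
    (List.map (fun p : ℕ × ℕ × ℤ => (⟨[p.1], [p.2.1], [(p.2.2, 1, [])]⟩ : Blk)) (List.zip (unp 3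
    0x23d168741bf7d7b79777573716f6d6b69676563617e74d992e549913bceb8f5291) (List.zip (unp 3
    0x23d168741bf7d7b79777573716f6d6b69676563617e74d992e549913bceb8f5291) (unz 2
    0xaaaaaaaaaaaaaaaaaaaaaaaaaaaaaaaaaaaa)))) ++ []⟩

theorem A2A2A1A1_013245_ceOK : A2A2A1A1_013245_L.ceOK A2A2A1A1_013245_ce = true := by decide +kernel

noncomputable def A2A2A1A1_012354_ce : Ce := ⟨1, 1,
    (List.map (fun p : ℕ × ℕ × ℤ => (⟨[p.1], [p.2.1], [(p.2.2, 1, [])]⟩ : Blk)) (List.zip (unp 3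
    0x23617e74d992e549913bceb8f5291) (List.zip (unp 3 0x23617e74d992e549913bceb8f5291) (unz 2
    0xaaaaaaaaaaaaaaaaaa)))) ++ []⟩

theorem A2A2A1A1_012354_ceOK : A2A2A1A1_012354_L.ceOK A2A2A1A1_012354_ce = true := by decide +kernel

noncomputable def A2A2A1A1_013254_ce : Ce := ⟨1, 1,
    (List.map (fun p : ℕ × ℕ × ℤ => (⟨[p.1], [p.2.1], [(p.2.2, 1, [])]⟩ : Blk)) (List.zip (unp 3
    0x23617e74d992e549913bceb8f5291) (List.zip (unp 3 0x23617e74d992e549913bceb8f5291) (unz 2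
    0xaaaaaaaaaaaaaaaaaa)))) ++ []⟩

theorem A2A2A1A1_013254_ceOK : A2A2A1A1_013254_L.ceOK A2A2A1A1_013254_ce = true := by decide +kernel

noncomputable def A2A2A1A1_103245_ce : Ce := ⟨1, 1,
    (List.map (fun p : ℕ × ℕ × ℤ => (⟨[p.1], [p.2.1], [(p.2.2, 1, [])]⟩ : Blk)) (List.zip (unp 3
    0x23d168741bf7d7b79777573716f6d6b69676563617e74d992e549913bceb8f5291) (List.zip (unp 3
    0x23d168741bf7d7b79777573716f6d6b69676563617e74d992e549913bceb8f5291) (unz 2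
    0xaaaaaaaaaaaaaaaaaaaaaaaaaaaaaaaaaaaa)))) ++ []⟩

theorem A2A2A1A1_103245_ceOK : A2A2A1A1_103245_L.ceOK A2A2A1A1_103245_ce = true := by decide +kernel

noncomputable def A2A2A1A1_103254_ce : Ce := ⟨1, 1,
    (List.map (fun p : ℕ × ℕ × ℤ => (⟨[p.1], [p.2.1], [(p.2.2, 1, [])]⟩ : Blk)) (List.zip (unp 3
    0x23617e74d992e549913bceb8f5291) (List.zip (unp 3 0x23617e74d992e549913bceb8f5291) (unz 2
    0xaaaaaaaaaaaaaaaaaa)))) ++ []⟩

theorem A2A2A1A1_103254_ceOK : A2A2A1A1_103254_L.ceOK A2A2A1A1_103254_ce = true := by decide +kernel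

noncomputable def A2A2A1A1_230145_ce : Ce := ⟨1, 1,
    (List.map (fun p : ℕ × ℕ × ℤ => (⟨[p.1], [p.2.1], [(p.2.2, 1, [])]⟩ : Blk)) (List.zip (unp 3
    0x2e549913bceb8f5291) (List.zip (unp 3 0x2e549913bceb8f5291) (unz 2 0xaaaaaaaaaaaa)))) ++ []⟩

theorem A2A2A1A1_230145_ceOK : A2A2A1A1_230145_L.ceOK A2A2A1A1_230145_ce = true := by decide +kernel

noncomputable def A2A2A1A1_231045_ce : Ce := ⟨1, 1,
    (List.map (fun p : ℕ × ℕ × ℤ => (⟨[p.1], [p.2.1], [(p.2.2, 1, [])]⟩ : Blk)) (List.zip (unp 3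
    0x2e549913bceb8f5291) (List.zip (unp 3 0x2e549913bceb8f5291) (unz 2 0xaaaaaaaaaaaa)))) ++ []⟩

theorem A2A2A1A1_231045_ceOK : A2A2A1A1_231045_L.ceOK A2A2A1A1_231045_ce = true := by decide +kernel

noncomputable def A2A2A1A1_230154_ce : Ce := ⟨1, 1,
    (List.map (fun p : ℕ × ℕ × ℤ => (⟨[p.1], [p.2.1], [(p.2.2, 1, [])]⟩ : Blk)) (List.zip (unp 2 0xbcfaa9)
    (List.zip (unp 2 0xbcfaa9) (unz 2 0xaaaaaa)))) ++ []⟩

theorem A2A2A1A1_230154_ceOK : A2A2A1A1_230154_L.ceOK A2A2A1A1_230154_ce = true := by decide +kernel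

noncomputable def A2A2A1A1_231054_ce : Ce := ⟨1, 1,
    (List.map (fun p : ℕ × ℕ × ℤ => (⟨[p.1], [p.2.1], [(p.2.2, 1, [])]⟩ : Blk)) (List.zip (unp 2 0xbcfaa9)
    (List.zip (unp 2 0xbcfaa9) (unz 2 0xaaaaaa)))) ++ []⟩

theorem A2A2A1A1_231054_ceOK : A2A2A1A1_231054_L.ceOK A2A2A1A1_231054_ce = true := by decide +kernel

noncomputable def E6A1_ce : Ce := ⟨6, 72,
    (List.map (fun p : ℕ × ℕ × ℤ => (⟨[p.1], [p.2.1], [(p.2.2, 1, [])]⟩ : Blk)) (List.zip (unp 3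
    0x2fd76b759a9d469f4da5dbb26d58766c1b16f6d67657bceb8f5291) (List.zip (unp 3
    0xc761afd76b759abd56a751a7d369749a3d168741bf7d7bceb8f5291) (unz 4
    0x908908908908908908908908908908908908908908908908908908908908908908908908908908908908)))) ++ [⟨[10, 11, 28],
    [18, 19, 20], List.map (fun l => (nth 0 l 0, nth 0 l 1, l.drop 2)) (List.map (unz 3) [0x4a47, 0x4a3c5,
    0x2539e4])⟩, ⟨[12, 13, 29], [21, 22, 23], List.map (fun l => (nth 0 l 0, nth 0 l 1, l.drop 2)) (List.map (unz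
    3) [0x4a47, 0x4a3c5, 0x2539e4])⟩, ⟨[14, 15, 30], [24, 25, 26], List.map (fun l => (nth 0 l 0, nth 0 l 1, l.drop
    2)) (List.map (unz 3) [0x4a47, 0x4a3c5, 0x2659e4])⟩, ⟨[16, 17, 31], [27, 28, 29], List.map (fun l => (nth 0 l
    0, nth 0 l 1, l.drop 2)) (List.map (unz 3) [0x4a47, 0x4a3c5, 0x2659e4])⟩, ⟨[8, 20, 34, 42, 48], [12, 11, 10, 9,
    8], List.map (fun l => (nth 0 l 0, nth 0 l 1, l.drop 2)) (List.map (unz 3) [0x4a47, 0xca47, 0x266395,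
    0x4c86395, 0x158ca5123])⟩, ⟨[9, 21, 35, 43, 49], [17, 16, 15, 14, 13], List.map (fun l => (nth 0 l 0, nth 0 l
    1, l.drop 2)) (List.map (unz 3) [0x4a47, 0xca47, 0x266395, 0x4c86395, 0x158ca5123])⟩]⟩

theorem E6A1_ceOK : E6A1_L.ceOK E6A1_ce = true := by decide +kernel

noncomputable def E6A1_5143206_ce : Ce := ⟨6, 72,
    (List.map (fun p : ℕ × ℕ × ℤ => (⟨[p.1], [p.2.1], [(p.2.2, 1, [])]⟩ : Blk)) (List.zip (unp 3
    0x31d86bf5da5d268f45ab6961d3b0695fdf9ebd3664b952644ef391) (List.zip (unp 3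
    0xc761afd76b759abd56a751a7d369749b3716f6d6b69676563617e7491) (unz 4
    0x908908908908908908908908908908908908908908908908908908908908908908908908908908908908)))) ++ [⟨[2, 28, 40],
    [4, 3, 2], List.map (fun l => (nth 0 l 0, nth 0 l 1, l.drop 2)) (List.map (unz 3) [0x4a47, 0x263c5,
    0x4739e4])⟩, ⟨[3, 29, 41], [7, 6, 5], List.map (fun l => (nth 0 l 0, nth 0 l 1, l.drop 2)) (List.map (unz 3)
    [0x4a47, 0x263c5, 0x4739e4])⟩, ⟨[4, 26, 38], [8, 9, 10], List.map (fun l => (nth 0 l 0, nth 0 l 1, l.drop 2))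
    (List.map (unz 3) [0x4a47, 0x263c5, 0x1339e4])⟩, ⟨[5, 27, 39], [11, 12, 13], List.map (fun l => (nth 0 l 0, nth
    0 l 1, l.drop 2)) (List.map (unz 3) [0x4a47, 0x263c5, 0x1339e4])⟩, ⟨[16, 22, 23, 42, 44], [30, 29, 28, 27, 26],
    List.map (fun l => (nth 0 l 0, nth 0 l 1, l.drop 2)) (List.map (unz 3) [0x4a47, 0xca47, 0x266395, 0x4a46395,
    0xcc665123])⟩, ⟨[17, 24, 25, 43, 45], [35, 34, 33, 32, 31], List.map (fun l => (nth 0 l 0, nth 0 l 1, l.drop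
    2)) (List.map (unz 3) [0x4a47, 0xca47, 0x266395, 0x4a46395, 0xcc665123])⟩]⟩

theorem E6A1_5143206_ceOK : E6A1_5143206_L.ceOK E6A1_5143206_ce = true := by decide +kernel

noncomputable def D4A2_ce : Ce := ⟨2, 12,
    (List.map (fun p : ℕ × ℕ × ℤ => (⟨[p.1], [p.2.1], [(p.2.2, 1, [])]⟩ : Blk)) (List.zip (unp 3
    0x1268741bf7d777573716f6b69676563617e74d992e549913b8f5291) (List.zip (unp 3
    0x26d2e9347a2d0e837efaf6e6e2dedad6d2cecac6c2fce9b325c8f5291) (unz 3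
    0xc5c5c5c5c5c5c5c5c5c5c5c5c5c5c5c5c5c5c5c5c5c5c5c5c5c5c5c5c5c5)))) ++ [⟨[5, 28, 34], [5, 6, 7], List.map (fun l
    => (nth 0 l 0, nth 0 l 1, l.drop 2)) (List.map (unz 3) [0x964, 0x128e3, 0x94e72])⟩, ⟨[6, 29, 35], [8, 9, 10],
    List.map (fun l => (nth 0 l 0, nth 0 l 1, l.drop 2)) (List.map (unz 3) [0x964, 0x128e3, 0x94e72])⟩, ⟨[22, 37,
    38], [26, 27, 28], List.map (fun l => (nth 0 l 0, nth 0 l 1, l.drop 2)) (List.map (unz 3) [0x964, 0x128e3,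
    0x94e72])⟩]⟩

theorem D4A2_ceOK : D4A2_L.ceOK D4A2_ce = true := by decide +kernel

noncomputable def D4A2_012354_ce : Ce := ⟨2, 12,
    (List.map (fun p : ℕ × ℕ × ℤ => (⟨[p.1], [p.2.1], [(p.2.2, 1, [])]⟩ : Blk)) (List.zip (unp 3
    0x9b4ba3d168741bf7d7b796b69676563617e74d992e549913bcf5291) (List.zip (unp 3
    0x4da5d268f45a1d06fdf5edcdc5bdb5ada59d958d85f9d3664b9535291) (unz 3
    0xc5c5c5c5c5c5c5c5c5c5c5c5c5c5c5c5c5c5c5c5c5c5c5c5c5c5c5c5c5c5)))) ++ [⟨[4, 22, 24], [4, 5, 6], List.map (fun l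
    => (nth 0 l 0, nth 0 l 1, l.drop 2)) (List.map (unz 3) [0x964, 0x128e3, 0x94e72])⟩, ⟨[5, 23, 25], [7, 8, 9],
    List.map (fun l => (nth 0 l 0, nth 0 l 1, l.drop 2)) (List.map (unz 3) [0x964, 0x128e3, 0x94e72])⟩, ⟨[26, 27,
    36], [26, 27, 28], List.map (fun l => (nth 0 l 0, nth 0 l 1, l.drop 2)) (List.map (unz 3) [0x964, 0x128e3,
    0x99672])⟩]⟩

theorem D4A2_012354_ceOK : D4A2_012354_L.ceOK D4A2_012354_ce = true := by decide +kernel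

noncomputable def D4A2_013245_ce : Ce := ⟨2, 12,
    (List.map (fun p : ℕ × ℕ × ℤ => (⟨[p.1], [p.2.1], [(p.2.2, 1, [])]⟩ : Blk)) (List.zip (unp 3
    0x16b5b4b0bf3a6cc972a4cceb8f5291) (List.zip (unp 3 0x1ab9b8b4b3b2b1b0bf3a6cceb8f5291) (unz 3
    0xc5c5c5c5c5c5c5c5c5c5c5c5c5c5c5c5c5c5)))) ++ [⟨[7, 17, 25], [7, 8, 9], List.map (fun l => (nth 0 l 0, nth 0 l
    1, l.drop 2)) (List.map (unz 3) [0x964, 0x98e3, 0x4ce72])⟩, ⟨[8, 19, 26], [10, 11, 12], List.map (fun l => (nth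
    0 l 0, nth 0 l 1, l.drop 2)) (List.map (unz 3) [0x964, 0x98e3, 0x4ce72])⟩, ⟨[18, 23, 24], [21, 22, 23],
    List.map (fun l => (nth 0 l 0, nth 0 l 1, l.drop 2)) (List.map (unz 3) [0x964, 0x98e3, 0x4ce72])⟩]⟩

theorem D4A2_013245_ceOK : D4A2_013245_L.ceOK D4A2_013245_ce = true := by decide +kernel

noncomputable def D4A2_013254_ce : Ce := ⟨2, 12,
    (List.map (fun p : ℕ × ℕ × ℤ => (⟨[p.1], [p.2.1], [(p.2.2, 1, [])]⟩ : Blk)) (List.zip (unp 3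
    0xcdc5bdada59dd992e549912b8f5291) (List.zip (unp 3 0x3573716f6d6b63617e74d992b8f5291) (unz 3
    0xc5c5c5c5c5c5c5c5c5c5c5c5c5c5c5c5c5c5)))) ++ [⟨[6, 14, 16], [6, 7, 8], List.map (fun l => (nth 0 l 0, nth 0 l
    1, l.drop 2)) (List.map (unz 3) [0x964, 0x98e3, 0x4ce72])⟩, ⟨[7, 15, 17], [9, 10, 11], List.map (fun l => (nth
    0 l 0, nth 0 l 1, l.drop 2)) (List.map (unz 3) [0x964, 0x98e3, 0x4ce72])⟩, ⟨[18, 22, 26], [18, 19, 20],
    List.map (fun l => (nth 0 l 0, nth 0 l 1, l.drop 2)) (List.map (unz 3) [0x964, 0x98e3, 0x4ce72])⟩]⟩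

theorem D4A2_013254_ceOK : D4A2_013254_L.ceOK D4A2_013254_ce = true := by decide +kernel

noncomputable def D4A2_213045_ce : Ce := ⟨2, 12,
    (List.map (fun p : ℕ × ℕ × ℤ => (⟨[p.1], [p.2.1], [(p.2.2, 1, [])]⟩ : Blk)) (List.zip (unp 3
    0x3e749913bceb8f5291) (List.zip (unp 3 0x8d859913bceb8f5291) (unz 3 0xc5c5c5c5c5c5c5c5c5c5c5c5)))) ++ [⟨[10,
    11, 19], [12, 11, 10], List.map (fun l => (nth 0 l 0, nth 0 l 1, l.drop 2)) (List.map (unz 3) [0x964, 0x98e3,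
    0x11ce72])⟩, ⟨[12, 13, 20], [15, 14, 13], List.map (fun l => (nth 0 l 0, nth 0 l 1, l.drop 2)) (List.map (unz
    3) [0x964, 0x98e3, 0x11ce72])⟩, ⟨[16, 17, 18], [20, 19, 18], List.map (fun l => (nth 0 l 0, nth 0 l 1, l.drop
    2)) (List.map (unz 3) [0x964, 0x98e3, 0x11ce72])⟩]⟩

theorem D4A2_213045_ceOK : D4A2_213045_L.ceOK D4A2_213045_ce = true := by decide +kernel

noncomputable def D4A2_213054_ce : Ce := ⟨2, 12,
    (List.map (fun p : ℕ × ℕ × ℤ => (⟨[p.1], [p.2.1], [(p.2.2, 1, [])]⟩ : Blk)) (List.zip (unp 3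
    0x8d85f9d3bceb8f5291) (List.zip (unp 3 0x296765637bceb8f5291) (unz 3 0xc5c5c5c5c5c5c5c5c5c5c5c5)))) ++ [⟨[8, 9,
    18], [10, 9, 8], List.map (fun l => (nth 0 l 0, nth 0 l 1, l.drop 2)) (List.map (unz 3) [0x964, 0x98e3,
    0x11ce72])⟩, ⟨[10, 11, 19], [13, 12, 11], List.map (fun l => (nth 0 l 0, nth 0 l 1, l.drop 2)) (List.map (unz
    3) [0x964, 0x98e3, 0x11ce72])⟩, ⟨[12, 13, 20], [16, 15, 14], List.map (fun l => (nth 0 l 0, nth 0 l 1, l.drop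
    2)) (List.map (unz 3) [0x964, 0x98e3, 0x11ce72])⟩]⟩

theorem D4A2_213054_ceOK : D4A2_213054_L.ceOK D4A2_213054_ce = true := by decide +kernel

noncomputable def D5A2_ce : Ce := ⟨2, 12,
    (List.map (fun p : ℕ × ℕ × ℤ => (⟨[p.1], [p.2.1], [(p.2.2, 1, [])]⟩ : Blk)) (List.zip (unp 3
    0x6bb4d8ebf5dacd5ea75ba4d1e8b43b16f6d6b697b67796563616e549913bceb8f5291) (List.zip (unp 3
    0x35da6cf65b1d86bf5dadd66af55a9d168741bf7d7b79777573716e549913bceb8f5291) (unz 3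
    0xc5c5c5c5c5c5c5c5c5c5c5c5c5c5c5c5c5c5c5c5c5c5c5c5c5c5c5c5c5c5c5c5c5c5c5c5)))) ++ [⟨[12, 25, 37], [12, 13, 14],
    List.map (fun l => (nth 0 l 0, nth 0 l 1, l.drop 2)) (List.map (unz 3) [0x964, 0x128e3, 0x94e72])⟩, ⟨[13, 27,
    38], [15, 16, 17], List.map (fun l => (nth 0 l 0, nth 0 l 1, l.drop 2)) (List.map (unz 3) [0x964, 0x128e3,
    0x94e72])⟩, ⟨[14, 30, 39], [18, 19, 20], List.map (fun l => (nth 0 l 0, nth 0 l 1, l.drop 2)) (List.map (unz 3)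
    [0x964, 0x128e3, 0x94e72])⟩, ⟨[15, 32, 40], [21, 22, 23], List.map (fun l => (nth 0 l 0, nth 0 l 1, l.drop 2))
    (List.map (unz 3) [0x964, 0x128e3, 0x94e72])⟩, ⟨[26, 42, 50], [35, 36, 37], List.map (fun l => (nth 0 l 0, nth
    0 l 1, l.drop 2)) (List.map (unz 3) [0x964, 0x128e3, 0x94e72])⟩, ⟨[31, 48, 51], [38, 39, 40], List.map (fun l
    => (nth 0 l 0, nth 0 l 1, l.drop 2)) (List.map (unz 3) [0x964, 0x128e3, 0x94e72])⟩]⟩

theorem D5A2_ceOK : D5A2_L.ceOK D5A2_ce = true := by decide +kernel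

noncomputable def D5A2_0123465_ce : Ce := ⟨2, 12,
    (List.map (fun p : ℕ × ℕ × ℤ => (⟨[p.1], [p.2.1], [(p.2.2, 1, [])]⟩ : Blk)) (List.zip (unp 3
    0x35da6cf65b1d76b35baad469749a3d168741b77567656f636d617e749913bceb8f5291) (List.zip (unp 3
    0xd769b3d96c761afd76b759a5d268f45a1d06fdf5ede5ddd5cdc5bdb59913bceb8f5291) (unz 3
    0xc5c5c5c5c5c5c5c5c5c5c5c5c5c5c5c5c5c5c5c5c5c5c5c5c5c5c5c5c5c5c5c5c5c5c5c5)))) ++ [⟨[10, 20, 28], [10, 11, 12],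
    List.map (fun l => (nth 0 l 0, nth 0 l 1, l.drop 2)) (List.map (unz 3) [0x964, 0x128e3, 0x94e72])⟩, ⟨[11, 21,
    29], [13, 14, 15], List.map (fun l => (nth 0 l 0, nth 0 l 1, l.drop 2)) (List.map (unz 3) [0x964, 0x128e3,
    0x94e72])⟩, ⟨[12, 24, 30], [16, 17, 18], List.map (fun l => (nth 0 l 0, nth 0 l 1, l.drop 2)) (List.map (unz 3)
    [0x964, 0x128e3, 0x94e72])⟩, ⟨[13, 25, 31], [19, 20, 21], List.map (fun l => (nth 0 l 0, nth 0 l 1, l.drop 2))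
    (List.map (unz 3) [0x964, 0x128e3, 0x94e72])⟩, ⟨[38, 41, 47], [38, 39, 40], List.map (fun l => (nth 0 l 0, nth
    0 l 1, l.drop 2)) (List.map (unz 3) [0x964, 0x98e3, 0x129672])⟩, ⟨[39, 43, 48], [41, 42, 43], List.map (fun l
    => (nth 0 l 0, nth 0 l 1, l.drop 2)) (List.map (unz 3) [0x964, 0x98e3, 0x129672])⟩]⟩

theorem D5A2_0123465_ceOK : D5A2_0123465_L.ceOK D5A2_0123465_ce = true := by decide +kernel

noncomputable def D5A2_0124356_ce : Ce := ⟨2, 12,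
    (List.map (fun p : ℕ × ℕ × ℤ => (⟨[p.1], [p.2.1], [(p.2.2, 1, [])]⟩ : Blk)) (List.zip (unp 3
    0xcf65abd56a751a7d369749a3d16e5ddd5cdc5bdb5ada59d8d85f9d2e549913bcf5291) (List.zip (unp 3
    0x6bb4d9ecb63b0d7ebb5bacd5eab4da5d268f45a1d06fdf5edcdc5bdb5f9d3664b9535291) (unz 3
    0xc5c5c5c5c5c5c5c5c5c5c5c5c5c5c5c5c5c5c5c5c5c5c5c5c5c5c5c5c5c5c5c5c5c5c5c5)))) ++ [⟨[4, 30, 44], [4, 5, 6],
    List.map (fun l => (nth 0 l 0, nth 0 l 1, l.drop 2)) (List.map (unz 3) [0x964, 0x128e3, 0x99672])⟩, ⟨[5, 31,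
    45], [7, 8, 9], List.map (fun l => (nth 0 l 0, nth 0 l 1, l.drop 2)) (List.map (unz 3) [0x964, 0x128e3,
    0x99672])⟩, ⟨[12, 32, 46], [16, 17, 18], List.map (fun l => (nth 0 l 0, nth 0 l 1, l.drop 2)) (List.map (unz 3)
    [0x964, 0x128e3, 0x99672])⟩, ⟨[13, 33, 47], [19, 20, 21], List.map (fun l => (nth 0 l 0, nth 0 l 1, l.drop 2))
    (List.map (unz 3) [0x964, 0x128e3, 0x99672])⟩, ⟨[18, 48, 52], [26, 27, 28], List.map (fun l => (nth 0 l 0, nth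
    0 l 1, l.drop 2)) (List.map (unz 3) [0x964, 0x128e3, 0x99672])⟩, ⟨[29, 49, 53], [39, 40, 41], List.map (fun l
    => (nth 0 l 0, nth 0 l 1, l.drop 2)) (List.map (unz 3) [0x964, 0x128e3, 0x99672])⟩]⟩

theorem D5A2_0124356_ceOK : D5A2_0124356_L.ceOK D5A2_0124356_ce = true := by decide +kernel

noncomputable def D5A2_0124365_ce : Ce := ⟨2, 12,
    (List.map (fun p : ℕ × ℕ × ℤ => (⟨[p.1], [p.2.1], [(p.2.2, 1, [])]⟩ : Blk)) (List.zip (unp 3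
    0xd769b2d8ebf5dadd66af55a7d36fdf5ede5bdb5ada59d958d85f9d36649913bcf5291) (List.zip (unp 3
    0x35da6cf65b1d86bf5dadd66af55a3d168741bf7d7b79777573716f6d6b697664b9535291) (unz 3
    0xc5c5c5c5c5c5c5c5c5c5c5c5c5c5c5c5c5c5c5c5c5c5c5c5c5c5c5c5c5c5c5c5c5c5c5c5)))) ++ [⟨[4, 24, 32], [4, 5, 6],
    List.map (fun l => (nth 0 l 0, nth 0 l 1, l.drop 2)) (List.map (unz 3) [0x964, 0x128e3, 0x99672])⟩, ⟨[5, 25,
    33], [7, 8, 9], List.map (fun l => (nth 0 l 0, nth 0 l 1, l.drop 2)) (List.map (unz 3) [0x964, 0x128e3,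
    0x99672])⟩, ⟨[10, 26, 34], [14, 15, 16], List.map (fun l => (nth 0 l 0, nth 0 l 1, l.drop 2)) (List.map (unz 3)
    [0x964, 0x128e3, 0x99672])⟩, ⟨[11, 27, 35], [17, 18, 19], List.map (fun l => (nth 0 l 0, nth 0 l 1, l.drop 2))
    (List.map (unz 3) [0x964, 0x128e3, 0x99672])⟩, ⟨[36, 40, 48], [36, 37, 38], List.map (fun l => (nth 0 l 0, nth
    0 l 1, l.drop 2)) (List.map (unz 3) [0x964, 0x98e3, 0x129672])⟩, ⟨[37, 41, 51], [39, 40, 41], List.map (fun l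
    => (nth 0 l 0, nth 0 l 1, l.drop 2)) (List.map (unz 3) [0x964, 0x98e3, 0x129672])⟩]⟩

theorem D5A2_0124365_ceOK : D5A2_0124365_L.ceOK D5A2_0124365_ce = true := by decide +kernel

noncomputable def A3A3_ce : Ce := ⟨1, 1,
    (List.map (fun p : ℕ × ℕ × ℤ => (⟨[p.1], [p.2.1], [(p.2.2, 1, [])]⟩ : Blk)) (List.zip (unp 3
    0x316f6d6b69676563617e74d992e549913bceb8f5291) (List.zip (unp 3 0x316f6d6b69676563617e74d992e549913bceb8f5291)
    (unz 2 0xaaaaaaaaaaaaaaaaaaaaaaaaa)))) ++ []⟩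

theorem A3A3_ceOK : A3A3_L.ceOK A3A3_ce = true := by decide +kernel

noncomputable def A3A3_012543_ce : Ce := ⟨1, 1,
    (List.map (fun p : ℕ × ℕ × ℤ => (⟨[p.1], [p.2.1], [(p.2.2, 1, [])]⟩ : Blk)) (List.zip (unp 3
    0x316f6d6b69676563617e74d992e549913bceb8f5291) (List.zip (unp 3 0x316f6d6b69676563617e74d992e549913bceb8f5291)
    (unz 2 0xaaaaaaaaaaaaaaaaaaaaaaaaa)))) ++ []⟩

theorem A3A3_012543_ceOK : A3A3_012543_L.ceOK A3A3_012543_ce = true := by decide +kernel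

noncomputable def A3A3_210543_ce : Ce := ⟨1, 1,
    (List.map (fun p : ℕ × ℕ × ℤ => (⟨[p.1], [p.2.1], [(p.2.2, 1, [])]⟩ : Blk)) (List.zip (unp 3
    0x316f6d6b69676563617e74d992e549913bceb8f5291) (List.zip (unp 3 0x316f6d6b69676563617e74d992e549913bceb8f5291)
    (unz 2 0xaaaaaaaaaaaaaaaaaaaaaaaaa)))) ++ []⟩

theorem A3A3_210543_ceOK : A3A3_210543_L.ceOK A3A3_210543_ce = true := by decide +kernel

noncomputable def A3A3_345012_ce : Ce := ⟨1, 1,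
    (List.map (fun p : ℕ × ℕ × ℤ => (⟨[p.1], [p.2.1], [(p.2.2, 1, [])]⟩ : Blk)) (List.zip (unp 2 0x4faa9) (List.zip
    (unp 2 0x4faa9) (unz 2 0xaaaaa)))) ++ []⟩

theorem A3A3_345012_ceOK : A3A3_345012_L.ceOK A3A3_345012_ce = true := by decide +kernel

noncomputable def A3A3_345210_ce : Ce := ⟨1, 1,
    (List.map (fun p : ℕ × ℕ × ℤ => (⟨[p.1], [p.2.1], [(p.2.2, 1, [])]⟩ : Blk)) (List.zip (unp 2 0x4faa9) (List.zip
    (unp 2 0x4faa9) (unz 2 0xaaaaa)))) ++ []⟩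

theorem A3A3_345210_ceOK : A3A3_345210_L.ceOK A3A3_345210_ce = true := by decide +kernel

noncomputable def A4A3_ce : Ce := ⟨1, 1,
    (List.map (fun p : ℕ × ℕ × ℤ => (⟨[p.1], [p.2.1], [(p.2.2, 1, [])]⟩ : Blk)) (List.zip (unp 3
    0x1168741bf7d7b79777573716f6d6b69676563617e74d992e549913bceb8f5291) (List.zip (unp 3
    0x1168741bf7d7b79777573716f6d6b69676563617e74d992e549913bceb8f5291) (unz 2
    0xaaaaaaaaaaaaaaaaaaaaaaaaaaaaaaaaaaa)))) ++ []⟩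

theorem A4A3_ceOK : A4A3_L.ceOK A4A3_ce = true := by decide +kernel

noncomputable def A4A3_0123654_ce : Ce := ⟨1, 1,
    (List.map (fun p : ℕ × ℕ × ℤ => (⟨[p.1], [p.2.1], [(p.2.2, 1, [])]⟩ : Blk)) (List.zip (unp 3
    0x1168741bf7d7b79777573716f6d6b69676563617e74d992e549913bceb8f5291) (List.zip (unp 3
    0x1168741bf7d7b79777573716f6d6b69676563617e74d992e549913bceb8f5291) (unz 2
    0xaaaaaaaaaaaaaaaaaaaaaaaaaaaaaaaaaaa)))) ++ []⟩

theorem A4A3_0123654_ceOK : A4A3_0123654_L.ceOK A4A3_0123654_ce = true := by decide +kernel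

noncomputable def A4A3_3210456_ce : Ce := ⟨1, 1,
    (List.map (fun p : ℕ × ℕ × ℤ => (⟨[p.1], [p.2.1], [(p.2.2, 1, [])]⟩ : Blk)) (List.zip (unp 3
    0x1168741bf7d7b79777573716f6d6b69676563617e74d992e549913bceb8f5291) (List.zip (unp 3
    0x1168741bf7d7b79777573716f6d6b69676563617e74d992e549913bceb8f5291) (unz 2
    0xaaaaaaaaaaaaaaaaaaaaaaaaaaaaaaaaaaa)))) ++ []⟩

theorem A4A3_3210456_ceOK : A4A3_3210456_L.ceOK A4A3_3210456_ce = true := by decide +kernel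

noncomputable def A4A3_3210654_ce : Ce := ⟨1, 1,
    (List.map (fun p : ℕ × ℕ × ℤ => (⟨[p.1], [p.2.1], [(p.2.2, 1, [])]⟩ : Blk)) (List.zip (unp 3
    0x1168741bf7d7b79777573716f6d6b69676563617e74d992e549913bceb8f5291) (List.zip (unp 3
    0x1168741bf7d7b79777573716f6d6b69676563617e74d992e549913bceb8f5291) (unz 2
    0xaaaaaaaaaaaaaaaaaaaaaaaaaaaaaaaaaaa)))) ++ []⟩

theorem A4A3_3210654_ceOK : A4A3_3210654_L.ceOK A4A3_3210654_ce = true := by decide +kernel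

noncomputable def A4A2A1_ce : Ce := ⟨1, 1,
    (List.map (fun p : ℕ × ℕ × ℤ => (⟨[p.1], [p.2.1], [(p.2.2, 1, [])]⟩ : Blk)) (List.zip (unp 3
    0xa751a7d369749a3d168741bf7d7b79777573716f6d6b69676563617e74d992e549913bceb8f5291) (List.zip (unp 3
    0xa751a7d369749a3d168741bf7d7b79777573716f6d6b69676563617e74d992e549913bceb8f5291) (unz 2
    0xaaaaaaaaaaaaaaaaaaaaaaaaaaaaaaaaaaaaaaaaaa)))) ++ []⟩

theorem A4A2A1_ceOK : A4A2A1_L.ceOK A4A2A1_ce = true := by decide +kernel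

noncomputable def A4A2A1_3210456_ce : Ce := ⟨1, 1,
    (List.map (fun p : ℕ × ℕ × ℤ => (⟨[p.1], [p.2.1], [(p.2.2, 1, [])]⟩ : Blk)) (List.zip (unp 3
    0xa751a7d369749a3d168741bf7d7b79777573716f6d6b69676563617e74d992e549913bceb8f5291) (List.zip (unp 3
    0xa751a7d369749a3d168741bf7d7b79777573716f6d6b69676563617e74d992e549913bceb8f5291) (unz 2
    0xaaaaaaaaaaaaaaaaaaaaaaaaaaaaaaaaaaaaaaaaaa)))) ++ []⟩

theorem A4A2A1_3210456_ceOK : A4A2A1_3210456_L.ceOK A4A2A1_3210456_ce = true := by decide +kernel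

noncomputable def A4A2A1_0123546_ce : Ce := ⟨1, 1,
    (List.map (fun p : ℕ × ℕ × ℤ => (⟨[p.1], [p.2.1], [(p.2.2, 1, [])]⟩ : Blk)) (List.zip (unp 3
    0xa751a7d369749a3d168741bf7d7b79777573716f6d6b69676563617e74d992e549913bceb8f5291) (List.zip (unp 3
    0xa751a7d369749a3d168741bf7d7b79777573716f6d6b69676563617e74d992e549913bceb8f5291) (unz 2
    0xaaaaaaaaaaaaaaaaaaaaaaaaaaaaaaaaaaaaaaaaaa)))) ++ []⟩

theorem A4A2A1_0123546_ceOK : A4A2A1_0123546_L.ceOK A4A2A1_0123546_ce = true := by decide +kernel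

noncomputable def A4A2A1_3210546_ce : Ce := ⟨1, 1,
    (List.map (fun p : ℕ × ℕ × ℤ => (⟨[p.1], [p.2.1], [(p.2.2, 1, [])]⟩ : Blk)) (List.zip (unp 3
    0xa751a7d369749a3d168741bf7d7b79777573716f6d6b69676563617e74d992e549913bceb8f5291) (List.zip (unp 3
    0xa751a7d369749a3d168741bf7d7b79777573716f6d6b69676563617e74d992e549913bceb8f5291) (unz 2
    0xaaaaaaaaaaaaaaaaaaaaaaaaaaaaaaaaaaaaaaaaaa)))) ++ []⟩

theorem A4A2A1_3210546_ceOK : A4A2A1_3210546_L.ceOK A4A2A1_3210546_ce = true := by decide +kernel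

noncomputable def A6A1_ce : Ce := ⟨1, 1,
    (List.map (fun p : ℕ × ℕ × ℤ => (⟨[p.1], [p.2.1], [(p.2.2, 1, [])]⟩ : Blk)) (List.zip (unp 3
    0x3b79777573716f6d6b69676563617e74d992e549913bceb8f5291) (List.zip (unp 3
    0x3b79777573716f6d6b69676563617e74d992e549913bceb8f5291) (unz 2 0xaaaaaaaaaaaaaaaaaaaaaaaaaaaaaa)))) ++ []⟩

theorem A6A1_ceOK : A6A1_L.ceOK A6A1_ce = true := by decide +kernel

noncomputable def A6A1_5432106_ce : Ce := ⟨1, 1,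
    (List.map (fun p : ℕ × ℕ × ℤ => (⟨[p.1], [p.2.1], [(p.2.2, 1, [])]⟩ : Blk)) (List.zip (unp 3
    0x3b79777573716f6d6b69676563617e74d992e549913bceb8f5291) (List.zip (unp 3
    0x3b79777573716f6d6b69676563617e74d992e549913bceb8f5291) (unz 2 0xaaaaaaaaaaaaaaaaaaaaaaaaaaaaaa)))) ++ []⟩

theorem A6A1_5432106_ceOK : A6A1_5432106_L.ceOK A6A1_5432106_ce = true := by decide +kernel

noncomputable def A7_ce : Ce := ⟨1, 1,
    (List.map (fun p : ℕ × ℕ × ℤ => (⟨[p.1], [p.2.1], [(p.2.2, 1, [])]⟩ : Blk)) (List.zip (unp 3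
    0x2563617e56f4a5d93b92e549913bceb8f5291) (List.zip (unp 3 0x2b69676563617e74d992e549913bceb8f5291) (unz 2
    0xaaaaaaaaaaaaaaaaaaaaaa)))) ++ []⟩

theorem A7_ceOK : A7_L.ceOK A7_ce = true := by decide +kernel

noncomputable def A7_6543210_ce : Ce := ⟨1, 1,
    (List.map (fun p : ℕ × ℕ × ℤ => (⟨[p.1], [p.2.1], [(p.2.2, 1, [])]⟩ : Blk)) (List.zip (unp 3
    0x2b69676563617e74d992e54999c4afb8f5291) (List.zip (unp 3 0x2b69676563617e74d992e549913bceb8f5291) (unz 2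
    0xaaaaaaaaaaaaaaaaaaaaaa)))) ++ []⟩

theorem A7_6543210_ceOK : A7_6543210_L.ceOK A7_6543210_ce = true := by decide +kernel

noncomputable def D7_ce : Ce := ⟨2, 12,
    (List.map (fun p : ℕ × ℕ × ℤ => (⟨[p.1], [p.2.1], [(p.2.2, 1, [])]⟩ : Blk)) (List.zip (unp 3
    0xdb6ba7d36c37ad3bb656ed66d9a6c764b9539696b8f5291) (List.zip (unp 3
    0x6db5da6cf65b1d86bf45a1ddb9b8b7b6b5b4b3b32b8f5291) (unz 3
    0xc5c5c5c5c5c5c5c5c5c5c5c5c5c5c5c5c5c5c5c5c5c5c5c5c5)))) ++ [⟨[6, 14, 19], [6, 7, 8], List.map (fun l => (nth 0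
    l 0, nth 0 l 1, l.drop 2)) (List.map (unz 3) [0x964, 0x128e3, 0x94e72])⟩, ⟨[7, 31, 37], [10, 11, 12], List.map
    (fun l => (nth 0 l 0, nth 0 l 1, l.drop 2)) (List.map (unz 3) [0x964, 0x128e3, 0x94e72])⟩, ⟨[8, 36, 40], [13,
    14, 15], List.map (fun l => (nth 0 l 0, nth 0 l 1, l.drop 2)) (List.map (unz 3) [0x964, 0x128e3, 0x94e72])⟩,
    ⟨[9, 17, 27], [16, 17, 18], List.map (fun l => (nth 0 l 0, nth 0 l 1, l.drop 2)) (List.map (unz 3) [0x964,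
    0x128e3, 0x94e72])⟩, ⟨[15, 43, 50], [26, 27, 28], List.map (fun l => (nth 0 l 0, nth 0 l 1, l.drop 2))
    (List.map (unz 3) [0x964, 0x98e3, 0x4ce72])⟩, ⟨[16, 45, 51], [32, 31, 30], List.map (fun l => (nth 0 l 0, nth 0
    l 1, l.drop 2)) (List.map (unz 3) [0x964, 0x98e3, 0x1a9672])⟩, ⟨[21, 22, 32], [37, 36, 35], List.map (fun l =>
    (nth 0 l 0, nth 0 l 1, l.drop 2)) (List.map (unz 3) [0x964, 0x128e3, 0x239672])⟩, ⟨[23, 33, 42], [38, 39, 40],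
    List.map (fun l => (nth 0 l 0, nth 0 l 1, l.drop 2)) (List.map (unz 3) [0x964, 0x98e3, 0x4ce72])⟩, ⟨[24, 25,
    34], [43, 42, 41], List.map (fun l => (nth 0 l 0, nth 0 l 1, l.drop 2)) (List.map (unz 3) [0x964, 0x128e3,
    0x239672])⟩, ⟨[26, 35, 47], [44, 45, 46], List.map (fun l => (nth 0 l 0, nth 0 l 1, l.drop 2)) (List.map (unz
    3) [0x964, 0x98e3, 0x4ce72])⟩]⟩

theorem D7_ceOK : D7_L.ceOK D7_ce = true := by decide +kernel

noncomputable def D7_0123465_ce : Ce := ⟨2, 12,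
    (List.map (fun p : ℕ × ℕ × ℤ => (⟨[p.1], [p.2.1], [(p.2.2, 1, [])]⟩ : Blk)) (List.zip (unp 3
    0xaf51a5d26db76f2dbb56cd9b8ec5bdc364b9322675c7a91) (List.zip (unp 3
    0xdb6bb4d9ecb63b0d7eaf55a9d469f4da5dbbab9b8b1bb264491) (unz 3
    0xc5c5c5c5c5c5c5c5c5c5c5c5c5c5c5c5c5c5c5c5c5c5c5c5c5)))) ++ [⟨[2, 38, 50], [4, 3, 2], List.map (fun l => (nth 0
    l 0, nth 0 l 1, l.drop 2)) (List.map (unz 3) [0x964, 0x128e3, 0xd4e72])⟩, ⟨[16, 33, 46], [5, 6, 7], List.map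
    (fun l => (nth 0 l 0, nth 0 l 1, l.drop 2)) (List.map (unz 3) [0x964, 0x98e3, 0x4ce72])⟩, ⟨[10, 18, 32], [10,
    11, 12], List.map (fun l => (nth 0 l 0, nth 0 l 1, l.drop 2)) (List.map (unz 3) [0x964, 0x98e3, 0x129672])⟩,
    ⟨[13, 21, 35], [14, 15, 16], List.map (fun l => (nth 0 l 0, nth 0 l 1, l.drop 2)) (List.map (unz 3) [0x964,
    0x98e3, 0x129672])⟩, ⟨[7, 39, 51], [20, 19, 18], List.map (fun l => (nth 0 l 0, nth 0 l 1, l.drop 2)) (List.map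
    (unz 3) [0x964, 0x128e3, 0xd4e72])⟩, ⟨[15, 34, 47], [21, 22, 23], List.map (fun l => (nth 0 l 0, nth 0 l 1,
    l.drop 2)) (List.map (unz 3) [0x964, 0x98e3, 0x4ce72])⟩, ⟨[14, 19, 41], [28, 29, 30], List.map (fun l => (nth 0
    l 0, nth 0 l 1, l.drop 2)) (List.map (unz 3) [0x964, 0x98e3, 0x4ce72])⟩, ⟨[17, 20, 42], [31, 32, 33], List.map
    (fun l => (nth 0 l 0, nth 0 l 1, l.drop 2)) (List.map (unz 3) [0x964, 0x98e3, 0x4ce72])⟩, ⟨[22, 31, 52], [34,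
    35, 36], List.map (fun l => (nth 0 l 0, nth 0 l 1, l.drop 2)) (List.map (unz 3) [0x964, 0x128e3, 0x99672])⟩,
    ⟨[27, 30, 53], [44, 45, 46], List.map (fun l => (nth 0 l 0, nth 0 l 1, l.drop 2)) (List.map (unz 3) [0x964,
    0x128e3, 0x99672])⟩]⟩

theorem D7_0123465_ceOK : D7_0123465_L.ceOK D7_0123465_ce = true := by decide +kernel

/-- the certificates for `E8_Ls` -/
noncomputable def E8_ces : List Ce :=
    [T0_ce, A1_ce, A1A1_ce, A1A1_10_ce, A2_ce, A2_10_ce, A2A1_ce, A2A1_102_ce, A3_ce, A3_210_ce, A4_ce, A4_3210_ce,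
    A1A1A1_ce, A1A1A1_021_ce, A1A1A1_120_ce, A2A1A1_ce, A2A1A1_0132_ce, A2A1A1_1023_ce, A2A1A1_1032_ce, A3A1_ce,
    A3A1_2103_ce, D4_ce, D4_0132_ce, D4_2130_ce, D5_ce, D5_01243_ce, A4A1_ce, A4A1_32104_ce, A2A2_ce, A2A2_0132_ce,
    A2A2_1032_ce, A2A2_2301_ce, A2A2_2310_ce, A2A2A1_ce, A2A2A1_01324_ce, A2A2A1_10324_ce, A2A2A1_23014_ce,
    A2A2A1_23104_ce, A5_ce, A5_43210_ce, E6_ce, E6_514320_ce, A1A1A1A1_ce, A1A1A1A1_0132_ce, A1A1A1A1_0231_ce,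
    A1A1A1A1_1032_ce, A1A1A1A1_1230_ce, A2A1A1A1_ce, A2A1A1A1_01243_ce, A2A1A1A1_01342_ce, A2A1A1A1_10234_ce,
    A2A1A1A1_10243_ce, A2A1A1A1_10342_ce, A3A1A1_ce, A3A1A1_21034_ce, A3A1A1_01243_ce, A3A1A1_21043_ce, D4A1_ce,
    D4A1_01324_ce, D4A1_21304_ce, D5A1_ce, D5A1_012435_ce, A3A2_ce, A3A2_01243_ce, A3A2_21034_ce, A3A2_21043_ce,
    A4A2_ce, A4A2_012354_ce, A4A2_321045_ce, A4A2_321054_ce, A3A2A1_ce, A3A2A1_210345_ce, A3A2A1_012435_ce,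
    A3A2A1_210435_ce, A5A1_ce, A5A1_432105_ce, A6_ce, A6_543210_ce, D6_ce, D6_012354_ce, E7_ce, A4A1A1_ce,
    A4A1A1_012354_ce, A4A1A1_321045_ce, A4A1A1_321054_ce, A2A2A1A1_ce, A2A2A1A1_013245_ce, A2A2A1A1_012354_ce,
    A2A2A1A1_013254_ce, A2A2A1A1_103245_ce, A2A2A1A1_103254_ce, A2A2A1A1_230145_ce, A2A2A1A1_231045_ce,
    A2A2A1A1_230154_ce, A2A2A1A1_231054_ce, E6A1_ce, E6A1_5143206_ce, D4A2_ce, D4A2_012354_ce, D4A2_013245_ce,
    D4A2_013254_ce, D4A2_213045_ce, D4A2_213054_ce, D5A2_ce, D5A2_0123465_ce, D5A2_0124356_ce, D5A2_0124365_ce,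
    A3A3_ce, A3A3_012543_ce, A3A3_210543_ce, A3A3_345012_ce, A3A3_345210_ce, A4A3_ce, A4A3_0123654_ce,
    A4A3_3210456_ce, A4A3_3210654_ce, A4A2A1_ce, A4A2A1_3210456_ce, A4A2A1_0123546_ce, A4A2A1_3210546_ce, A6A1_ce,
    A6A1_5432106_ce, A7_ce, A7_6543210_ce, D7_ce, D7_0123465_ce]

theorem E8_ces_ok : List.Forall₂ (fun (L : Lat) c => L.ceOK c = true) E8_Ls E8_ces :=
    (List.Forall₂.cons T0_ceOK (List.Forall₂.cons A1_ceOK (List.Forall₂.cons A1A1_ceOK (List.Forall₂.cons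
    A1A1_10_ceOK (List.Forall₂.cons A2_ceOK (List.Forall₂.cons A2_10_ceOK (List.Forall₂.cons A2A1_ceOK
    (List.Forall₂.cons A2A1_102_ceOK (List.Forall₂.cons A3_ceOK (List.Forall₂.cons A3_210_ceOK (List.Forall₂.cons
    A4_ceOK (List.Forall₂.cons A4_3210_ceOK (List.Forall₂.cons A1A1A1_ceOK (List.Forall₂.cons A1A1A1_021_ceOK
    (List.Forall₂.cons A1A1A1_120_ceOK (List.Forall₂.cons A2A1A1_ceOK (List.Forall₂.cons A2A1A1_0132_ceOK
    (List.Forall₂.cons A2A1A1_1023_ceOK (List.Forall₂.cons A2A1A1_1032_ceOK (List.Forall₂.cons A3A1_ceOK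
    (List.Forall₂.cons A3A1_2103_ceOK (List.Forall₂.cons D4_ceOK (List.Forall₂.cons D4_0132_ceOK (List.Forall₂.cons
    D4_2130_ceOK (List.Forall₂.cons D5_ceOK (List.Forall₂.cons D5_01243_ceOK (List.Forall₂.cons A4A1_ceOK
    (List.Forall₂.cons A4A1_32104_ceOK (List.Forall₂.cons A2A2_ceOK (List.Forall₂.cons A2A2_0132_ceOK
    (List.Forall₂.cons A2A2_1032_ceOK (List.Forall₂.cons A2A2_2301_ceOK (List.Forall₂.cons A2A2_2310_ceOK
    (List.Forall₂.cons A2A2A1_ceOK (List.Forall₂.cons A2A2A1_01324_ceOK (List.Forall₂.cons A2A2A1_10324_ceOK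
    (List.Forall₂.cons A2A2A1_23014_ceOK (List.Forall₂.cons A2A2A1_23104_ceOK (List.Forall₂.cons A5_ceOK
    (List.Forall₂.cons A5_43210_ceOK (List.Forall₂.cons E6_ceOK (List.Forall₂.cons E6_514320_ceOK
    (List.Forall₂.cons A1A1A1A1_ceOK (List.Forall₂.cons A1A1A1A1_0132_ceOK (List.Forall₂.cons A1A1A1A1_0231_ceOK
    (List.Forall₂.cons A1A1A1A1_1032_ceOK (List.Forall₂.cons A1A1A1A1_1230_ceOK (List.Forall₂.cons A2A1A1A1_ceOK
    (List.Forall₂.cons A2A1A1A1_01243_ceOK (List.Forall₂.cons A2A1A1A1_01342_ceOK (List.Forall₂.cons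
    A2A1A1A1_10234_ceOK (List.Forall₂.cons A2A1A1A1_10243_ceOK (List.Forall₂.cons A2A1A1A1_10342_ceOK
    (List.Forall₂.cons A3A1A1_ceOK (List.Forall₂.cons A3A1A1_21034_ceOK (List.Forall₂.cons A3A1A1_01243_ceOK
    (List.Forall₂.cons A3A1A1_21043_ceOK (List.Forall₂.cons D4A1_ceOK (List.Forall₂.cons D4A1_01324_ceOK
    (List.Forall₂.cons D4A1_21304_ceOK (List.Forall₂.cons D5A1_ceOK (List.Forall₂.cons D5A1_012435_ceOK
    (List.Forall₂.cons A3A2_ceOK (List.Forall₂.cons A3A2_01243_ceOK (List.Forall₂.cons A3A2_21034_ceOK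
    (List.Forall₂.cons A3A2_21043_ceOK (List.Forall₂.cons A4A2_ceOK (List.Forall₂.cons A4A2_012354_ceOK
    (List.Forall₂.cons A4A2_321045_ceOK (List.Forall₂.cons A4A2_321054_ceOK (List.Forall₂.cons A3A2A1_ceOK
    (List.Forall₂.cons A3A2A1_210345_ceOK (List.Forall₂.cons A3A2A1_012435_ceOK (List.Forall₂.cons
    A3A2A1_210435_ceOK (List.Forall₂.cons A5A1_ceOK (List.Forall₂.cons A5A1_432105_ceOK (List.Forall₂.cons A6_ceOK
    (List.Forall₂.cons A6_543210_ceOK (List.Forall₂.cons D6_ceOK (List.Forall₂.cons D6_012354_ceOK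
    (List.Forall₂.cons E7_ceOK (List.Forall₂.cons A4A1A1_ceOK (List.Forall₂.cons A4A1A1_012354_ceOK
    (List.Forall₂.cons A4A1A1_321045_ceOK (List.Forall₂.cons A4A1A1_321054_ceOK (List.Forall₂.cons A2A2A1A1_ceOK
    (List.Forall₂.cons A2A2A1A1_013245_ceOK (List.Forall₂.cons A2A2A1A1_012354_ceOK (List.Forall₂.cons
    A2A2A1A1_013254_ceOK (List.Forall₂.cons A2A2A1A1_103245_ceOK (List.Forall₂.cons A2A2A1A1_103254_ceOK
    (List.Forall₂.cons A2A2A1A1_230145_ceOK (List.Forall₂.cons A2A2A1A1_231045_ceOK (List.Forall₂.cons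
    A2A2A1A1_230154_ceOK (List.Forall₂.cons A2A2A1A1_231054_ceOK (List.Forall₂.cons E6A1_ceOK (List.Forall₂.cons
    E6A1_5143206_ceOK (List.Forall₂.cons D4A2_ceOK (List.Forall₂.cons D4A2_012354_ceOK (List.Forall₂.cons
    D4A2_013245_ceOK (List.Forall₂.cons D4A2_013254_ceOK (List.Forall₂.cons D4A2_213045_ceOK (List.Forall₂.cons
    D4A2_213054_ceOK (List.Forall₂.cons D5A2_ceOK (List.Forall₂.cons D5A2_0123465_ceOK (List.Forall₂.cons
    D5A2_0124356_ceOK (List.Forall₂.cons D5A2_0124365_ceOK (List.Forall₂.cons A3A3_ceOK (List.Forall₂.cons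
    A3A3_012543_ceOK (List.Forall₂.cons A3A3_210543_ceOK (List.Forall₂.cons A3A3_345012_ceOK (List.Forall₂.cons
    A3A3_345210_ceOK (List.Forall₂.cons A4A3_ceOK (List.Forall₂.cons A4A3_0123654_ceOK (List.Forall₂.cons
    A4A3_3210456_ceOK (List.Forall₂.cons A4A3_3210654_ceOK (List.Forall₂.cons A4A2A1_ceOK (List.Forall₂.cons
    A4A2A1_3210456_ceOK (List.Forall₂.cons A4A2A1_0123546_ceOK (List.Forall₂.cons A4A2A1_3210546_ceOK
    (List.Forall₂.cons A6A1_ceOK (List.Forall₂.cons A6A1_5432106_ceOK (List.Forall₂.cons A7_ceOK (List.Forall₂.cons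
    A7_6543210_ceOK (List.Forall₂.cons D7_ceOK (List.Forall₂.cons D7_0123465_ceOK
    List.Forall₂.nil))))))))))))))))))))))))))))))))))))))))))))))))))))))))))))))))))))))))))))))))))))))))))))))))))))))))))))))))))))))))))))))


end Cfsg.Agent.LV.W
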