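import Cfsg.Agent.LV.W.Enu

/-!
# LV/W: sequential forms of the checks `derOK`, `invOK` (for large nodes) (helper25)
-/

set_option autoImplicit false

namespace Cfsg.Agent.LV.W

open Finset Cfsg.Agent.LV.Enum

theorem nth_addL (a b : List ℤ) (i : ℕ) : nth 0 (addL Int.add a b) i = nth 0 a i + nth 0 b i := by
  induction a generalizing b i with
  | nil => cases b <;> simp [addL, nth_nil]
  | cons x a ih =>
    cases b with
    | nil => simp [addL, nth_nil]
    | cons y b =>
      cases i with
      | zero => rfl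
      | succ i => exact ih b i

/-- the linear combination of the forms -/
def lc (L : List (List ℤ × ℤ)) (cf : List (ℤ × ℕ)) : List ℤ :=
  List.rec [] (fun p _ ih => addL Int.add ((nth ([], 0) L p.2).1.map fun x => p.1 * x) ih) cf

theorem nth_lc (L : List (List ℤ × ℤ)) (cf : List (ℤ × ℕ)) (φ : ℕ) : nth 0 (lc L cf) φ =
    List.rec 0 (fun p _ ih => p.1 * nth 0 p.2 φ + ih) (cf.map fun p => (p.1, (nth ([], 0) L p.2).1)) := by
  induction cf with
  | nil => rfl
  | cons p cf ih =>
    show nth 0 (addL Int.add _ (lc L cf)) φ = _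
    rw [nth_addL, nth_map_mul, ih]
    rfl

/-- comparison of two lists under a mask -/
def cmpM (m : ℤ) (mk : List Bool) : List ℤ → List ℤ → Bool :=
  List.rec (fun _ _ => true) (fun b _ ih l l' =>
    cond b (decide (m * l.headD 0 = l'.headD 0)) (decide (l.headD 0 = 0)) && ih l.tail l'.tail) mk

theorem cmpM_spec {m : ℤ} {mk : List Bool} {l l' : List ℤ} (h : cmpM m mk l l' = true) {i : ℕ} (hi : i < mk.length) :
    cond (nth false mk i) (decide (m * nth 0 l i = nth 0 l' i)) (decide (nth 0 l i = 0)) = true := by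
  induction mk generalizing l l' i with
  | nil => exact absurd hi (Nat.not_lt_zero i)
  | cons b mk ih =>
    have h1 : (cond b (decide (m * l.headD 0 = l'.headD 0)) (decide (l.headD 0 = 0)) && cmpM m mk l.tail l'.tail) = true := h
    rw [Bool.and_eq_true] at h1
    cases i with
    | zero => cases l <;> cases l' <;> exact h1.1
    | succ i =>
      have h2 := ih h1.2 (Nat.lt_of_succ_lt_succ hi)
      cases l <;> cases l' <;> exact h2

theorem nth_range_map {α : Type} (d : α) (f : ℕ → α) {n i : ℕ} (hi : i < n) : nth d ((List.range n).map f) i = f i := by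
  rw [nth_eq, List.getD_eq_getElem _ _ (by simpa using hi)]; simp

def mskL (nd : Nd) (msk : List (ℕ × ℤ)) : List Bool :=
  List.rec (List.replicate nd.K true) (fun p _ ih =>
    List.zipWith (fun a b => decide (a = p.2) && b) (nth ⟨[], [], [], []⟩ nd.cas p.1).lev ih) msk

theorem mskL_spec {nd : Nd} {msk : List (ℕ × ℤ)} {i : ℕ} (hi : i < (mskL nd msk).length) :
    nth false (mskL nd msk) i = nd.inm msk i := by
  induction msk with
  | nil =>
    rw [nth_eq, List.getD_eq_getElem _ _ hi]; exact List.getElem_replicate ..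
  | cons p msk ih =>
    have e : mskL nd (p :: msk) = List.zipWith (fun a b => decide (a = p.2) && b)
      (nth ⟨[], [], [], []⟩ nd.cas p.1).lev (mskL nd msk) := rfl
    have h1 := hi
    rw [e, List.length_zipWith, lt_min_iff] at h1
    show _ = (decide (nd.lv p.1 i = p.2) && nd.inm msk i)
    rw [← ih h1.2, Nd.lv, nth_eq false, nth_eq false, nth_eq 0, List.getD_eq_getElem _ _ hi,
      List.getD_eq_getElem _ _ h1.1, List.getD_eq_getElem _ _ h1.2]
    exact List.getElem_zipWith ..

def derOK' (nd : Nd) (L : List (List ℤ × ℤ)) (d : Der) (q : List ℤ × ℤ) : Bool :=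
  decide (d.m ≠ 0) && d.msk.all (fun p => Nat.blt p.1 nd.cas.length) &&
  d.cf.all (fun p => Nat.blt p.2 L.length && decide (p.1 * (nth ([], 0) L p.2).2 % (d.m * q.2) = 0)) &&
  (Nat.beq (mskL nd d.msk).length nd.K && cmpM d.m (mskL nd d.msk) q.1 (lc L d.cf))

theorem derOK_of {nd : Nd} {L : List (List ℤ × ℤ)} {d : Der} {q : List ℤ × ℤ} (h : derOK' nd L d q = true) :
    derOK nd L d q = true := by
  rw [derOK', Bool.and_eq_true, Bool.and_eq_true (Nat.beq _ _), Nat.beq_eq] at h
  rw [derOK, Bool.and_eq_true]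
  refine ⟨h.1, allLt_iff.2 fun φ hφ => ?_⟩
  have h1 := cmpM_spec h.2.2 (h.2.1 ▸ hφ)
  rwa [mskL_spec (h.2.1 ▸ hφ), nth_lc] at h1

theorem FX.comb' {nd : Nd} (G : nd.Good) {L : List (List ℤ × ℤ)} (hL : FX nd L) (ds : List Der) (L' : List (List ℤ × ℤ))
    (hc : all2 (derOK' nd L) ds L' = true) : FX nd L' :=
  FX.comb G hL ds L' (all2_iff.2 ((all2_iff.1 hc).imp fun _ _ => derOK_of))

def invOK' (nd : Nd) (L : List (List ℤ × ℤ)) (R : List (ℤ × List (ℤ × ℕ))) : Bool :=
  allLt nd.K fun φ => (fun q : ℤ × List (ℤ × ℕ) => decide (q.1 ≠ 0) && q.2.all (fun p => Nat.blt p.2 L.length) &&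
    cmpM 1 (List.replicate nd.K true) (lc L q.2) (Nd.unit φ q.1)) (nth (0, []) R φ)

theorem invOK_of {nd : Nd} {L : List (List ℤ × ℤ)} {R : List (ℤ × List (ℤ × ℕ))} (h : invOK' nd L R = true) :
    invOK nd L R = true := by
  refine allLt_iff.2 fun φ hφ => ?_
  have h1 := allLt_iff.1 h φ hφ
  rw [Bool.and_eq_true] at h1 ⊢
  refine ⟨h1.1, allLt_iff.2 fun φ' hφ' => ?_⟩
  have h2 := cmpM_spec h1.2 (i := φ') (by simpa using hφ')
  rw [nth_eq false, List.getD_eq_getElem _ _ (by simpa using hφ'), List.getElem_replicate, cond_true, one_mul,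
    nth_lc, Nd.nth_unit] at h2
  exact h2

end Cfsg.Agent.LV.W
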