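import Cfsg.Agent.LV.W.Disp

/-! LV/W: generated data (helper25) -/

set_option autoImplicit false
set_option maxRecDepth 100000

namespace Cfsg.Agent.LV.W

/-- decoding of an entry -/
def unE (n : ℕ) : ℕ × List ℕ :=
  (n / 16 ^ (n % 16 + 1), (List.range (n % 16)).map fun i => n / 16 ^ (i + 1) % 16)

noncomputable def T0 : Nd where
  r := 0
  AL := []
  sg := []
  tab := 0x0
  tbs := 0x0
  n0 := 0x0
  RL := (List.map (unz 1) [])
  K := 1
  rep := (unp 1 0x3)
  cod := (unp 1 0x1)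
  nW := (unz 2 0xa)
  XC := (List.map (unz 2) [0xa])
  nu := (unz 2 0xa)
  b := 1
  B := 0x20000000000
  cas := []

theorem T0_good : T0.Good := Nd.good_of_full
    []
    (by decide +kernel)

noncomputable def T0_bas : List (List ℤ × ℤ) :=
    (List.map (fun l => (l, 1)) (List.map (unz 2) [0xa]))

noncomputable def T0_inv : List (ℤ × List (ℤ × ℕ)) :=
    (List.zip (unz 2 0xa) (List.map (unv 2) [0x1a]))

noncomputable def T0_cf : List (List (ℤ × ℕ) × ℤ) :=
    (List.zip (List.map (unv 2) [0x1a]) (unz 2 0xa))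

theorem T0_gen : FX T0
    (List.map (fun l => (l, 1)) (List.map (unz 2) [0xa])) :=
  FX.ofC T0_good
    (FC.delta T0 [0])
    _ (by decide +kernel)

theorem T0_fx : FX T0 T0_bas := FX.comb T0_good T0_gen (List.zipWith (fun a b => ⟨a, b, 1⟩)
    (List.map (fun n => List.map Prod.swap (unv 4 n)) [0x0])
    (List.map (unv 2) [0x1a]))
    _ (by decide +kernel)

theorem T0_io : invOK T0 T0_bas T0_inv = true := by decide +kernel

theorem T0_fc : FC T0 T0_cf := FC.ofX T0_good T0_fx _ (by decide +kernel)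

noncomputable def T0_L : Lat := ⟨T0, T0_bas, T0_inv⟩

theorem T0_ok : T0_L.Ok := ⟨T0_good, T0_fx, T0_io⟩

noncomputable def A1 : Nd where
  r := 1
  AL := [[2]]
  sg := [0]
  tab := 0xfffffffffffffffffffffffffffffffe00
  tbs := 0xfffffffffffffffffffffffffffffffe00
  n0 := 0x41
  RL := (List.map (unz 2) [0xa])
  K := 2
  rep := (unp 3 0x859)
  cod := (unp 3 0x7fa0f)
  nW := (unz 2 0xaa)
  XC := (List.map (unz 2) [0xaa, 0x5a])
  nu := (unz 2 0x273)
  b := 1
  B := 0x40000000000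
  cas := [⟨[0], [0], (unp 3 0x85), (unz 2 0x5a)⟩]

theorem A1_good : A1.Good := Nd.good_of_full
    [(List.map (unp 4) [0x1019, 0x1009])]
    (by decide +kernel)

noncomputable def A1_bas : List (List ℤ × ℤ) :=
    (List.map (fun l => (l, 1)) (List.map (unz 2) [0x1a, 0x51]))

noncomputable def A1_inv : List (ℤ × List (ℤ × ℕ)) :=
    (List.zip (unz 2 0xaa) (List.map (unv 2) [0x1a, 0x5a]))

noncomputable def A1_cf : List (List (ℤ × ℕ) × ℤ) :=
    (List.zip (List.map (unv 2) [0x2d1a, 0x169a]) (unz 2 0x273))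

theorem A1_gen : FX A1
    (List.map (fun l => (l, 1)) (List.map (unz 2) [0xaa])) :=
  FX.ofC A1_good
    (FC.delta A1 [0])
    _ (by decide +kernel)

theorem A1_fx : FX A1 A1_bas := FX.comb A1_good A1_gen (List.zipWith (fun a b => ⟨a, b, 1⟩)
    (List.map (fun n => List.map Prod.swap (unv 4 n)) [0x62, 0x31])
    (List.map (unv 2) [0x1a, 0x1a]))
    _ (by decide +kernel)

theorem A1_io : invOK A1 A1_bas A1_inv = true := by decide +kernel

theorem A1_fc : FC A1 A1_cf := FC.ofX A1_good A1_fx _ (by decide +kernel)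

noncomputable def A1_L : Lat := ⟨A1, A1_bas, A1_inv⟩

theorem A1_ok : A1_L.Ok := ⟨A1_good, A1_fx, A1_io⟩

noncomputable def G2 : Nd where
  r := 2
  AL := [[2, -3], [-1, 2]]
  sg := [0, 1]
  tab := 0xfffffffffffffffffffffffffffffe0108000000000000000000000000000002fe00
  tbs := 0xfffffffffffffffffffffffffffffe0108000000000000000000000000000002fe00
  n0 := 0x4141
  RL := (List.map (unz 2) [0x1a, 0x51, 0xaa, 0x15b, 0x153, 0x27b])
  K := 6
  rep := (unp 5 0x808080e6202118826058961)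
  cod := (unp 4 0x3f3feed0bbc43e887fffa174141f)
  nW := (unz 2 0xa9cf7ba)
  XC := (List.map (unz 2) [0x273aaaa, 0x26daa, 0x26d5a, 0x16aada, 0x2daaaa, 0x4faada])
  nu := (unz 3 0xc5c5c5c5c5c5)
  b := 2
  B := 0x400000000000
  cas := [⟨[0, 1], [1, 0, 1, 0, 1, 0], (unp 5 0x816020d8080856202035880b625), (unz 3 0x46e08e4)⟩]

theorem G2_good : G2.Good := Nd.good_of_full
    [(List.map (unp 5) [0x8126002d8081462003188136029, 0x801b6008d82a608981a6009, 0x8026006d802360a98226069,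
    0x800b6020518800c6204d80a6049, 0x80814620031881360298126002d, 0x8800c6204d80a6049800b602051])]
    (by decide +kernel)

noncomputable def G2_bas : List (List ℤ × ℤ) :=
    (List.map (fun l => (l, 1)) (List.map (unz 2) [0x1249a, 0x126d1, 0x154689, 0xb4689, 0x154d51, 0x13449]))

noncomputable def G2_inv : List (ℤ × List (ℤ × ℕ)) :=
    (List.zip (unz 3 0x479259e72) (List.map (unv 2) [0x1a, 0x13aeab3, 0x4ebaad, 0x17a, 0x27dd55bb3, 0x75aa]))

noncomputable def G2_cf : List (List (ℤ × ℕ) × ℤ) :=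
    (List.zip (List.map (unv 3) [0xae51c7a8e59ce632, 0x25332, 0x5731eb5a967358d4, 0x2b991c7a8e59cd632,
    0x5728e3d7632, 0xae51c7a8e55cd632]) (unz 3 0x18b9317163c5))

theorem G2_gen : FX G2
    (List.map (fun l => (l, 1)) (List.map (unz 2) [0x26daa, 0x16aada, 0x2a8d1a, 0xaa69a])) :=
  FX.ofC G2_good
    (FC.append (FC.delta G2 [1, 3])
    (FC.append (FC.ind G2_good A1_good (FC.pick A1_fc [0] (by decide +kernel)) ⟨[0], 0x2fe00, 0x1, (unp 4
    0x2053009)⟩ (by decide +kernel))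
    (FC.ind G2_good A1_good (FC.pick A1_fc [0] (by decide +kernel)) ⟨[0], 0x2fe00, 0x110101, (unp 5 0x82a620031)⟩
    (by decide +kernel))))
    _ (by decide +kernel)

theorem G2_fx : FX G2 G2_bas := FX.comb G2_good G2_gen (List.zipWith (fun a b => ⟨a, b, 1⟩)
    (List.map (fun n => List.map Prod.swap (unv 4 n)) [0x1c4, 0x21, 0x21, 0x21, 0x21, 0x1b4])
    (List.map (unv 2) [0x1a, 0x1a, 0xaa, 0x75, 0x2d, 0xd]))
    _ (by decide +kernel)

theorem G2_io : invOK G2 G2_bas G2_inv = true := by decide +kernel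

theorem G2_fc : FC G2 G2_cf := FC.ofX G2_good G2_fx _ (by decide +kernel)

noncomputable def G2_L : Lat := ⟨G2, G2_bas, G2_inv⟩

theorem G2_ok : G2_L.Ok := ⟨G2_good, G2_fx, G2_io⟩

noncomputable def G2_10 : Nd where
  r := 2
  AL := [[2, -3], [-1, 2]]
  sg := [1, 0]
  tab := 0xfffffffffffffffffffffffffffffe0108000000000000000000000000000002fe00
  tbs := 0x2fe00fffffffffffffffffffffffffffffe0108
  n0 := 0x4141
  RL := (List.map (unz 2) [0x1a, 0x51, 0xaa, 0x15b, 0x153, 0x27b])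
  K := 4
  rep := (unp 5 0x88080d6202d8961)
  cod := (unp 4 0x1e20f7687dfa174141f)
  nW := (unz 3 0x11c71e4)
  XC := (List.map (unz 2) [0x9aa, 0x555a, 0x38da, 0x2ada])
  nu := (unz 3 0x62c4c5c5)
  b := 2
  B := 0x400000000000
  cas := [⟨[0, 1], [1, 0, 1, 0, 1, 0], (unp 5 0x816020d8080856202035880b625), (unz 3 0x46e64)⟩]

theorem G2_10_good : G2_10.Good := Nd.good_of_full
    [(List.map (unp 5) [0x800b6004d801b60698126029, 0x800360201180800562001188036009,
    0x808046020015880046200d8026000d, 0x808005620011880360098003602011])]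
    (by decide +kernel)

noncomputable def G2_10_bas : List (List ℤ × ℤ) :=
    (List.map (fun l => (l, 1)) (List.map (unz 2) [0x49a, 0x4d1, 0x2a89, 0x2649]))

noncomputable def G2_10_inv : List (ℤ × List (ℤ × ℕ)) :=
    (List.zip (unz 2 0x273aa) (List.map (unv 2) [0x1a, 0x5a, 0xeb53, 0xea]))

noncomputable def G2_10_cf : List (List (ℤ × ℕ) × ℤ) :=
    (List.zip (List.map (unv 2) [0x75555a3b, 0xeb56d3b, 0x3ad5b3, 0x75575a]) (unz 3 0x33cf264))

theorem G2_10_gen : FX G2_10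
    (List.map (fun l => (l, 1)) (List.map (unz 2) [0x555a, 0x38da])) :=
  FX.ofC G2_10_good
    (FC.delta G2_10 [1, 2])
    _ (by decide +kernel)

theorem G2_10_fx : FX G2_10 G2_10_bas := FX.comb G2_10_good G2_10_gen (List.zipWith (fun a b => ⟨a, b, 1⟩)
    (List.map (fun n => List.map Prod.swap (unv 4 n)) [0x1c4, 0x1b4, 0x21, 0x21])
    (List.map (unv 2) [0x1a, 0xd, 0x1a, 0x2d]))
    _ (by decide +kernel)

theorem G2_10_io : invOK G2_10 G2_10_bas G2_10_inv = true := by decide +kernel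

theorem G2_10_fc : FC G2_10 G2_10_cf := FC.ofX G2_10_good G2_10_fx _ (by decide +kernel)

noncomputable def G2_10_L : Lat := ⟨G2_10, G2_10_bas, G2_10_inv⟩

theorem G2_10_ok : G2_10_L.Ok := ⟨G2_10_good, G2_10_fx, G2_10_io⟩

noncomputable def B2_10 : Nd where
  r := 2
  AL := [[2, -1], [-2, 2]]
  sg := [1, 0]
  tab := 0xfffffffffffffffffffffffffffffe0208000000000000000000000000000000fe00
  tbs := 0xfe00fffffffffffffffffffffffffffffe0208
  n0 := 0x4141
  RL := (List.map (unz 2) [0x1a, 0x51, 0x13a, 0xaa])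
  K := 3
  rep := (unp 4 0x440762b1)
  cod := (unp 4 0x7c83dfa1f4141f)
  nW := (unz 3 0x471c4)
  XC := (List.map (unz 2) [0x1aa, 0x55a, 0x2da])
  nu := (unz 3 0x448585)
  b := 1
  B := 0x100000000000
  cas := [⟨[0, 1], [1, 0, 1, 0], (unp 4 0x82c0436203b15), (unz 3 0x3dc4)⟩]

theorem B2_10_good : B2_10.Good := Nd.good_of_full
    [(List.map (unp 5) [0x800b6004d8126029, 0x800360201188036009, 0x808046200d8026000d])]
    (by decide +kernel)

noncomputable def B2_10_bas : List (List ℤ × ℤ) :=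
    (List.map (fun l => (l, 1)) (List.map (unz 2) [0x9a, 0xd1, 0x289]))

noncomputable def B2_10_inv : List (ℤ × List (ℤ × ℕ)) :=
    (List.zip (unz 2 0xaaa) (List.map (unv 2) [0x1a, 0x5a, 0xaa]))

noncomputable def B2_10_cf : List (List (ℤ × ℕ) × ℤ) :=
    (List.zip (List.map (unv 2) [0x555a33, 0x156d33, 0x2ada]) (unz 3 0x8e244))

theorem B2_10_gen : FX B2_10
    (List.map (fun l => (l, 1)) (List.map (unz 2) [0x1aa, 0x55a])) :=
  FX.ofC B2_10_good
    (FC.delta B2_10 [0, 1])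
    _ (by decide +kernel)

theorem B2_10_fx : FX B2_10 B2_10_bas := FX.comb B2_10_good B2_10_gen (List.zipWith (fun a b => ⟨a, b, 1⟩)
    (List.map (fun n => List.map Prod.swap (unv 4 n)) [0x184, 0xf3, 0x21])
    (List.map (unv 2) [0x1a, 0x1a, 0x5a]))
    _ (by decide +kernel)

theorem B2_10_io : invOK B2_10 B2_10_bas B2_10_inv = true := by decide +kernel

theorem B2_10_fc : FC B2_10 B2_10_cf := FC.ofX B2_10_good B2_10_fx _ (by decide +kernel)

noncomputable def B2_10_L : Lat := ⟨B2_10, B2_10_bas, B2_10_inv⟩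

theorem B2_10_ok : B2_10_L.Ok := ⟨B2_10_good, B2_10_fx, B2_10_io⟩

noncomputable def A2 : Nd where
  r := 2
  AL := [[2, -1], [-1, 2]]
  sg := [0, 1]
  tab := 0xfffffffffffffffffffffffffffffe0108000000000000000000000000000000fe00
  tbs := 0xfffffffffffffffffffffffffffffe0108000000000000000000000000000000fe00
  n0 := 0x4141
  RL := (List.map (unz 2) [0x1a, 0x51, 0xaa])
  K := 3
  rep := (unp 4 0x40660b1)
  cod := (unp 4 0x104fbe11ffc141f)
  nW := (unz 2 0x27ba)
  XC := (List.map (unz 2) [0x13aa, 0xda, 0x5aa])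
  nu := (unz 3 0x193264)
  b := 2
  B := 0x200000000000
  cas := [⟨[0, 1], [0, 1, 0], (unp 4 0x456203b05), (unz 2 0x6fb)⟩]

theorem A2_good : A2.Good := Nd.good_of_full
    [(List.map (unp 5) [0x202031880b6029, 0x2004d8126009, 0x2202d80a602031])]
    (by decide +kernel)

noncomputable def A2_bas : List (List ℤ × ℤ) :=
    (List.map (fun l => (l, 1)) (List.map (unz 2) [0x9a, 0xd1, 0x289]))

noncomputable def A2_inv : List (ℤ × List (ℤ × ℕ)) :=
    (List.zip (unz 2 0xaaa) (List.map (unv 2) [0x1a, 0x5a, 0xaa]))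

noncomputable def A2_cf : List (List (ℤ × ℕ) × ℤ) :=
    (List.zip (List.map (unv 2) [0xa9dd9a, 0xa9db9a, 0x2a9a]) (unz 3 0xcf264))

theorem A2_gen : FX A2
    (List.map (fun l => (l, 1)) (List.map (unz 2) [0x13aa, 0x5aa])) :=
  FX.ofC A2_good
    (FC.delta A2 [0, 2])
    _ (by decide +kernel)

theorem A2_fx : FX A2 A2_bas := FX.comb A2_good A2_gen (List.zipWith (fun a b => ⟨a, b, 1⟩)
    (List.map (fun n => List.map Prod.swap (unv 4 n)) [0xe3, 0xd3, 0x21])
    (List.map (unv 2) [0x1a, 0x1a, 0x2d]))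
    _ (by decide +kernel)

theorem A2_io : invOK A2 A2_bas A2_inv = true := by decide +kernel

theorem A2_fc : FC A2 A2_cf := FC.ofX A2_good A2_fx _ (by decide +kernel)

noncomputable def A2_L : Lat := ⟨A2, A2_bas, A2_inv⟩

theorem A2_ok : A2_L.Ok := ⟨A2_good, A2_fx, A2_io⟩

noncomputable def A2_10 : Nd where
  r := 2
  AL := [[2, -1], [-1, 2]]
  sg := [1, 0]
  tab := 0xfffffffffffffffffffffffffffffe0108000000000000000000000000000000fe00
  tbs := 0xfe00fffffffffffffffffffffffffffffe0108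
  n0 := 0x4141
  RL := (List.map (unz 2) [0x1a, 0x51, 0xaa])
  K := 3
  rep := (unp 4 0x404360b1)
  cod := (unp 4 0xfcffa11ffc141f)
  nW := (unz 2 0x2a7b)
  XC := (List.map (unz 2) [0x1aa, 0x55a, 0x75a])
  nu := (unz 3 0x193264)
  b := 2
  B := 0x200000000000
  cas := [⟨[0, 1], [0, 1, 0], (unp 4 0x456203b05), (unz 2 0x6fb)⟩]

theorem A2_10_good : A2_10.Good := Nd.good_of_full
    [(List.map (unp 4) [0x40076053019, 0x44036001b009, 0x40036013100d])]
    (by decide +kernel)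

noncomputable def A2_10_bas : List (List ℤ × ℤ) :=
    (List.map (fun l => (l, 1)) (List.map (unz 2) [0x9a, 0xd1, 0x289]))

noncomputable def A2_10_inv : List (ℤ × List (ℤ × ℕ)) :=
    (List.zip (unz 2 0xaaa) (List.map (unv 2) [0x1a, 0x5a, 0xaa]))

noncomputable def A2_10_cf : List (List (ℤ × ℕ) × ℤ) :=
    (List.zip (List.map (unv 2) [0xaab33b, 0x2ade3b, 0x2ada]) (unz 3 0xcf264))

theorem A2_10_gen : FX A2_10
    (List.map (fun l => (l, 1)) (List.map (unz 2) [0x1aa, 0x55a])) :=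
  FX.ofC A2_10_good
    (FC.delta A2_10 [0, 1])
    _ (by decide +kernel)

theorem A2_10_fx : FX A2_10 A2_10_bas := FX.comb A2_10_good A2_10_gen (List.zipWith (fun a b => ⟨a, b, 1⟩)
    (List.map (fun n => List.map Prod.swap (unv 4 n)) [0xe3, 0xd3, 0x21])
    (List.map (unv 2) [0x1a, 0x1a, 0x5a]))
    _ (by decide +kernel)

theorem A2_10_io : invOK A2_10 A2_10_bas A2_10_inv = true := by decide +kernel

theorem A2_10_fc : FC A2_10 A2_10_cf := FC.ofX A2_10_good A2_10_fx _ (by decide +kernel)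

noncomputable def A2_10_L : Lat := ⟨A2_10, A2_10_bas, A2_10_inv⟩

theorem A2_10_ok : A2_10_L.Ok := ⟨A2_10_good, A2_10_fx, A2_10_io⟩

noncomputable def A1A1 : Nd where
  r := 2
  AL := [[2, 0], [0, 2]]
  sg := [0, 1]
  tab := 0xfffffffffffffffffffffffffffffe0008fffffffffffffffffffffffffffffffe00
  tbs := 0xfffffffffffffffffffffffffffffe0008fffffffffffffffffffffffffffffffe00
  n0 := 0x4141
  RL := (List.map (unz 2) [0x1a, 0x51])
  K := 4
  rep := (unp 4 0x80cc560b1)
  cod := (unp 4 0x3f3fefd07a09ffc141f)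
  nW := (unz 2 0xaaaa)
  XC := (List.map (unz 2) [0xaaaa, 0x2daa, 0x2d5a, 0x2ada])
  nu := (unz 3 0x8912244)
  b := 1
  B := 0x80000000000
  cas := [⟨[0], [0], (unp 3 0x85), (unz 2 0x2daa)⟩, ⟨[1], [1], (unp 3 0x8d), (unz 2 0x2d5a)⟩]

theorem A1A1_good : A1A1.Good := Nd.good_of_full
    [(List.map (unp 4) [0x1019, 0x1009, 0x1039, 0x1029]), (List.map (unp 4) [0x1029, 0x1039, 0x1009, 0x1019])]
    (by decide +kernel)

noncomputable def A1A1_bas : List (List ℤ × ℤ) :=
    (List.map (fun l => (l, 1)) (List.map (unz 2) [0x49a, 0x4d1, 0x689, 0x1449]))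

noncomputable def A1A1_inv : List (ℤ × List (ℤ × ℕ)) :=
    (List.zip (unz 2 0xaaaa) (List.map (unv 2) [0x1a, 0x5a, 0xaa, 0xea]))

noncomputable def A1A1_cf : List (List (ℤ × ℕ) × ℤ) :=
    (List.zip (List.map (unv 2) [0x3aaaad1a, 0xeb56d1a, 0xeb5569a, 0xeaab69a]) (unz 3 0x8912244))

theorem A1A1_gen : FX A1A1
    (List.map (fun l => (l, 1)) (List.map (unz 2) [0xaaaa])) :=
  FX.ofC A1A1_good
    (FC.delta A1A1 [0])
    _ (by decide +kernel)

theorem A1A1_fx : FX A1A1 A1A1_bas := FX.comb A1A1_good A1A1_gen (List.zipWith (fun a b => ⟨a, b, 1⟩)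
    (List.map (fun n => List.map Prod.swap (unv 4 n)) [0x231062, 0x118862, 0x118831, 0x8c431])
    (List.map (unv 2) [0x1a, 0x1a, 0x1a, 0x1a]))
    _ (by decide +kernel)

theorem A1A1_io : invOK A1A1 A1A1_bas A1A1_inv = true := by decide +kernel

theorem A1A1_fc : FC A1A1 A1A1_cf := FC.ofX A1A1_good A1A1_fx _ (by decide +kernel)

noncomputable def A1A1_L : Lat := ⟨A1A1, A1A1_bas, A1A1_inv⟩

theorem A1A1_ok : A1A1_L.Ok := ⟨A1A1_good, A1A1_fx, A1A1_io⟩

noncomputable def A1A1_10 : Nd where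
  r := 2
  AL := [[2, 0], [0, 2]]
  sg := [1, 0]
  tab := 0xfffffffffffffffffffffffffffffe0008fffffffffffffffffffffffffffffffe00
  tbs := 0xfffffffffffffffffffffffffffffffe00fffffffffffffffffffffffffffffe0008
  n0 := 0x4141
  RL := (List.map (unz 2) [0x1a, 0x51])
  K := 2
  rep := (unp 3 0x8d9)
  cod := (unp 4 0x1fa0f4141f)
  nW := (unz 2 0x273)
  XC := (List.map (unz 2) [0xaa, 0x5a])
  nu := (unz 3 0x2244)
  b := 1
  B := 0x80000000000
  cas := [⟨[0, 1], [1, 0], (unp 3 0x858d), (unz 2 0x1d3)⟩]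

theorem A1A1_10_good : A1A1_10.Good := Nd.good_of_full
    [(List.map (unp 4) [0x2003b019, 0x2001b009])]
    (by decide +kernel)

noncomputable def A1A1_10_bas : List (List ℤ × ℤ) :=
    (List.map (fun l => (l, 1)) (List.map (unz 2) [0x1a, 0x51]))

noncomputable def A1A1_10_inv : List (ℤ × List (ℤ × ℕ)) :=
    (List.zip (unz 2 0xaa) (List.map (unv 2) [0x1a, 0x5a]))

noncomputable def A1A1_10_cf : List (List (ℤ × ℕ) × ℤ) :=
    (List.zip (List.map (unv 2) [0x2d1a, 0x169a]) (unz 2 0x273))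

theorem A1A1_10_gen : FX A1A1_10
    (List.map (fun l => (l, 1)) (List.map (unz 2) [0xaa])) :=
  FX.ofC A1A1_10_good
    (FC.delta A1A1_10 [0])
    _ (by decide +kernel)

theorem A1A1_10_fx : FX A1A1_10 A1A1_10_bas := FX.comb A1A1_10_good A1A1_10_gen (List.zipWith (fun a b => ⟨a, b, 1⟩)
    (List.map (fun n => List.map Prod.swap (unv 4 n)) [0xc3, 0x72])
    (List.map (unv 2) [0x1a, 0x1a]))
    _ (by decide +kernel)

theorem A1A1_10_io : invOK A1A1_10 A1A1_10_bas A1A1_10_inv = true := by decide +kernel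

theorem A1A1_10_fc : FC A1A1_10 A1A1_10_cf := FC.ofX A1A1_10_good A1A1_10_fx _ (by decide +kernel)

noncomputable def A1A1_10_L : Lat := ⟨A1A1_10, A1A1_10_bas, A1A1_10_inv⟩

theorem A1A1_10_ok : A1A1_10_L.Ok := ⟨A1A1_10_good, A1A1_10_fx, A1A1_10_io⟩

noncomputable def B2 : Nd where
  r := 2
  AL := [[2, -1], [-2, 2]]
  sg := [0, 1]
  tab := 0xfffffffffffffffffffffffffffffe0208000000000000000000000000000000fe00
  tbs := 0xfffffffffffffffffffffffffffffe0208000000000000000000000000000000fe00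
  n0 := 0x4141
  RL := (List.map (unz 2) [0x1a, 0x51, 0x13a, 0xaa])
  K := 5
  rep := (unp 5 0x2020318826058961)
  cod := (unp 4 0xfcffbe43e847fffa1f4141f)
  nW := (unz 2 0x54e73a)
  XC := (List.map (unz 2) [0x13aaaa, 0x6daa, 0x6d5a, 0x6ada, 0xeaaaa])
  nu := (unz 3 0x8585858585)
  b := 2
  B := 0x400000000000
  cas := [⟨[0, 1], [1, 0, 1, 0], (unp 4 0x82c0436203b15), (unz 3 0x3d88c4)⟩]

theorem B2_good : B2.Good := Nd.good_of_full
    [(List.map (unp 4) [0x814c0076205b019, 0x801ec126073009, 0x804c00f6093039, 0x800ec40b6033029,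
    0x8816c066053001d])]
    (by decide +kernel)

noncomputable def B2_bas : List (List ℤ × ℤ) :=
    (List.map (fun l => (l, 1)) (List.map (unz 2) [0x249a, 0x26d1, 0x14689, 0xa4d1, 0x3449]))

noncomputable def B2_inv : List (ℤ × List (ℤ × ℕ)) :=
    (List.zip (unz 2 0x4ea73a) (List.map (unv 2) [0x1a, 0x75555a, 0x3aaaad, 0x13a, 0x3ad55a]))

noncomputable def B2_cf : List (List (ℤ × ℕ) × ℤ) :=
    (List.zip (List.map (unv 2) [0x275d3a9d99a, 0x2ada, 0x9deea9de3b, 0x9efbabaccd, 0x9d74ebaf1a]) (unz 3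
    0x2161616385))

theorem B2_gen : FX B2
    (List.map (fun l => (l, 1)) (List.map (unz 2) [0x6daa, 0x6ada, 0x28d1a])) :=
  FX.ofC B2_good
    (FC.append (FC.delta B2 [1, 3])
    (FC.ind B2_good A1_good (FC.pick A1_fc [0] (by decide +kernel)) ⟨[0], 0xfe00, 0x1, (unp 4 0x2053009)⟩
    (by decide +kernel)))
    _ (by decide +kernel)

theorem B2_fx : FX B2 B2_bas := FX.comb B2_good B2_gen (List.zipWith (fun a b => ⟨a, b, 1⟩)
    (List.map (fun n => List.map Prod.swap (unv 4 n)) [0x184, 0x21, 0x21, 0x21, 0xf3])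
    (List.map (unv 2) [0x1a, 0x1a, 0xaa, 0x156d, 0xd]))
    _ (by decide +kernel)

theorem B2_io : invOK B2 B2_bas B2_inv = true := by decide +kernel

theorem B2_fc : FC B2 B2_cf := FC.ofX B2_good B2_fx _ (by decide +kernel)

noncomputable def B2_L : Lat := ⟨B2, B2_bas, B2_inv⟩

theorem B2_ok : B2_L.Ok := ⟨B2_good, B2_fx, B2_io⟩

noncomputable def C3 : Nd where
  r := 3
  AL := [[2, -1, 0], [-1, 2, -2], [0, -1, 2]]
  sg := [0, 1, 2]
  tab :=
    0xfffffffffffffffffffffffffffe0100100000000000000000000000000001fe0108000000000000000000000000000000fe00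
  tbs :=
    0xfffffffffffffffffffffffffffe0100100000000000000000000000000001fe0108000000000000000000000000000000fe00
  n0 := 0x414141
  RL := (List.map (unz 2) [0x9a, 0xd1, 0x289, 0x1aa, 0x551, 0xa99, 0xaaa, 0x2a73, 0x153a])
  K := 10
  rep := (unp 6 0x20204204252c8408559081b1026044c48491909311642c1)
  cod := (unp 5 0x1f9f9fdbb4142b76868368a7c837fd0cfedf9fa25bd4242b433f42bfe848368282837)
  nW := (unz 3 0x25921617267932672)
  XC :=
    (List.map (unz 2) [0x37bdee73aaaa, 0x16d574edaa, 0x2d5a26d5a, 0x2ada26ada, 0x2db673aaaa, 0x2d5526ada,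
    0x926daaaa, 0x49356daa, 0x2ad526d5a, 0x6f77bf4edaa])
  nu := (unz 3 0xc1f07c1f07c1f07c1f07c1f07)
  b := 3
  B := 0x2000000000000
  cas :=
    [⟨[0, 1, 2], [2, 1, 2, 0, 1, 2, 0, 1, 0], (unp 5 0x205880b62580908562420243d9080956242d9093645), (unz 3
    0x15ca73af38dceb95)⟩]

theorem C3_good : C3.Good := Nd.good_of_full
    [(List.map (unp 5) [0x220051801360498080c6204055810146202d90136029, 0x20a98081c6206d802362420b5801b608981a6009,
    0x200cd83260098082c602040d98090356206d8226069, 0x200ed88103d6202d80436420f183a6404d80a6049,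
    0x20211190436404d84a6210d84260298126202d, 0x20298103c640ed808446129803b6210d83a620051,
    0x2004d81262005188103d6410d8043640ed884360e9, 0x2006d8082c6200718090356420b181a640cd82a60c9,
    0x20240d5880246240d19082c640cd8226006d8033620ad, 0x22420b59082c60420b582260a9882b6008d8082c620091])]
    (by decide +kernel)

noncomputable def C3_bas : List (List ℤ × ℤ) :=
    (List.map (fun l => (l, 1)) (List.map (unz 2) [0x1249249a, 0xa24924d1, 0x124d24d1, 0x524d1249, 0x24d12689,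
    0x1249a689, 0x1269a249, 0x12493449, 0x13449249, 0x1a249249]))

noncomputable def C3_inv : List (ℤ × List (ℤ × ℕ)) :=
    (List.zip (unz 2 0x275539cea73a) (List.map (unv 3) [0x32, 0x1a94a532, 0x19cab9472, 0x772, 0xce55cc72,
    0xd4a5332, 0x6735cc72, 0x892, 0x992, 0x6a65332]))

noncomputable def C3_cf : List (List (ℤ × ℕ) × ℤ) :=
    (List.zip (List.map (unv 3) [0x264a264ee17385af2479eb24b24e632, 0x992ee3ce3aeb95632,
    0x4cce25cce0d5dc8ebd5c95c99519, 0x993225cee173f95e48e575725926b19, 0x264f7ace3aeb96632,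
    0x4cae264ce0d5dc8ebd5c96498d19, 0x4ca913277f33f95e48e575725727319, 0x99312e77f3385af2479eb24ae4d632,
    0x993123ae38e75a96a6432, 0x99289aae38e75a9473232]) (unz 3 0x20d06c1f07c1f1707c1f1707))

theorem C3_gen : FX C3
    (List.map (fun l => (l, 1)) (List.map (unz 2) [0x2d5a26d5a, 0x2ada26ada, 0x926daaaa])) :=
  FX.ofC C3_good
    (FC.delta C3 [2, 3, 6])
    _ (by decide +kernel)

theorem C3_fx : FX C3 C3_bas := FX.comb C3_good C3_gen (List.zipWith (fun a b => ⟨a, b, 1⟩)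
    (List.map (fun n => List.map Prod.swap (unv 4 n)) [0x325, 0xd3, 0xd3, 0xd3, 0xe3, 0xe3, 0xe3, 0x315, 0x31,
    0x62])
    (List.map (unv 2) [0x1a, 0xd, 0xaa, 0x156d, 0x1a, 0xaa, 0x156d, 0xd, 0xd, 0x1a]))
    _ (by decide +kernel)

theorem C3_io : invOK C3 C3_bas C3_inv = true := by decide +kernel

theorem C3_fc : FC C3 C3_cf := FC.ofX C3_good C3_fx _ (by decide +kernel)

noncomputable def C3_L : Lat := ⟨C3, C3_bas, C3_inv⟩

theorem C3_ok : C3_L.Ok := ⟨C3_good, C3_fx, C3_io⟩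

noncomputable def A2A1 : Nd where
  r := 3
  AL := [[2, -1, 0], [-1, 2, 0], [0, 0, 2]]
  sg := [0, 1, 2]
  tab :=
    0xfffffffffffffffffffffffffffe000010fffffffffffffffffffffffffffffe0108000000000000000000000000000000fe00
  tbs :=
    0xfffffffffffffffffffffffffffe000010fffffffffffffffffffffffffffffe0108000000000000000000000000000000fe00
  n0 := 0x414141
  RL := (List.map (unz 2) [0x9a, 0xd1, 0x289, 0x1aa])
  K := 6
  rep := (unp 4 0x2025b02980cc960b1)
  cod := (unp 5 0x1fa09f5bf423fb41413ebfe8283682847f78282837)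
  nW := (unz 2 0x9ee75ba)
  XC := (List.map (unz 2) [0x273aaaa, 0x26daa, 0x74ed5a, 0x2daaaa, 0x26ada, 0x156d5a])
  nu := (unz 3 0xc5c5c5c5c5c5)
  b := 2
  B := 0x400000000000
  cas :=
    [⟨[0, 1], [0, 1, 0], (unp 4 0x456203b05), (unz 2 0x9bdf7b)⟩, ⟨[2], [2], (unp 3 0x95), (unz 2 0x16ad5a)⟩]

theorem A2A1_good : A2A1.Good := Nd.good_of_full
    [(List.map (unp 5) [0x202031880b6029, 0x2006d81a6009, 0x20209188236089, 0x2202d80a602031, 0x200ad82a6049,
    0x2208d822602091]), (List.map (unp 4) [0x1029, 0x1049, 0x1009, 0x1059, 0x1019, 0x1039])]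
    (by decide +kernel)

noncomputable def A2A1_bas : List (List ℤ × ℤ) :=
    (List.map (fun l => (l, 1)) (List.map (unz 2) [0x1249a, 0x124d1, 0x12689, 0x13449, 0x1a249, 0x51249]))

noncomputable def A2A1_inv : List (ℤ × List (ℤ × ℕ)) :=
    (List.zip (unz 2 0xaaaaaa) (List.map (unv 2) [0x1a, 0x5a, 0xaa, 0xea, 0x13a, 0x17a]))

noncomputable def A2A1_cf : List (List (ℤ × ℕ) × ℤ) :=
    (List.zip (List.map (unv 2) [0xbce7be9d55d9a, 0x2fd3bf4eadd9a, 0xbce77e9d55b9a, 0x2fd3df4eadb9a, 0x2f7ad51a,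
    0x2f5d6a9a]) (unz 3 0x3264c5c5c5c5))

theorem A2A1_gen : FX A2A1
    (List.map (fun l => (l, 1)) (List.map (unz 2) [0x273aaaa, 0x2daaaa])) :=
  FX.ofC A2A1_good
    (FC.delta A2A1 [0, 3])
    _ (by decide +kernel)

theorem A2A1_fx : FX A2A1 A2A1_bas := FX.comb A2A1_good A2A1_gen (List.zipWith (fun a b => ⟨a, b, 1⟩)
    (List.map (fun n => List.map Prod.swap (unv 4 n)) [0x4620e3, 0x2310e3, 0x4620d3, 0x2310d3, 0x118821, 0x8c421])
    (List.map (unv 2) [0x1a, 0x1a, 0x1a, 0x1a, 0x2d, 0x2d]))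
    _ (by decide +kernel)

theorem A2A1_io : invOK A2A1 A2A1_bas A2A1_inv = true := by decide +kernel

theorem A2A1_fc : FC A2A1 A2A1_cf := FC.ofX A2A1_good A2A1_fx _ (by decide +kernel)

noncomputable def A2A1_L : Lat := ⟨A2A1, A2A1_bas, A2A1_inv⟩

theorem A2A1_ok : A2A1_L.Ok := ⟨A2A1_good, A2A1_fx, A2A1_io⟩

noncomputable def A2A1_102 : Nd where
  r := 3
  AL := [[2, -1, 0], [-1, 2, 0], [0, 0, 2]]
  sg := [1, 0, 2]
  tab :=
    0xfffffffffffffffffffffffffffe000010fffffffffffffffffffffffffffffe0108000000000000000000000000000000fe00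
  tbs :=
    0xfffffffffffffffffffffffffffe000010000000000000000000000000000000fe00fffffffffffffffffffffffffffffe0108
  n0 := 0x414141
  RL := (List.map (unz 2) [0x9a, 0xd1, 0x289, 0x1aa])
  K := 6
  rep := (unp 5 0x808146049916020d8161)
  cod := (unp 5 0x1f9f9fdbf423fb7e82836827e7f782847f78282837)
  nW := (unz 2 0xa9eea7b)
  XC := (List.map (unz 2) [0x9aaaa, 0x2aadaa, 0x3badaa, 0x26d5a, 0x16aada, 0x4faada])
  nu := (unz 3 0xc5c5c5c5c5c5)
  b := 2
  B := 0x400000000000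
  cas :=
    [⟨[0, 1], [0, 1, 0], (unp 4 0x456203b05), (unz 2 0x9bdf7b)⟩, ⟨[2], [2], (unp 3 0x95), (unz 2 0x16ad5a)⟩]

theorem A2A1_102_good : A2A1_102.Good := Nd.good_of_full
    [(List.map (unp 4) [0x40076053019, 0x44036001b009, 0x40036013100d, 0x401360b3049, 0x440f6007b039,
    0x400f6073103d]), (List.map (unp 4) [0x1039, 0x1049, 0x1059, 0x1009, 0x1019, 0x1029])]
    (by decide +kernel)

noncomputable def A2A1_102_bas : List (List ℤ × ℤ) :=
    (List.map (fun l => (l, 1)) (List.map (unz 2) [0x1249a, 0x124d1, 0x12689, 0x13449, 0x1a249, 0x51249]))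

noncomputable def A2A1_102_inv : List (ℤ × List (ℤ × ℕ)) :=
    (List.zip (unz 2 0xaaaaaa) (List.map (unv 2) [0x1a, 0x5a, 0xaa, 0xea, 0x13a, 0x17a]))

noncomputable def A2A1_102_cf : List (List (ℤ × ℕ) × ℤ) :=
    (List.zip (List.map (unv 2) [0xbd4e7dbaab33b, 0x2f67dd7aab33b, 0xbd9f76eade3b, 0x2f539f5eade3b, 0x5eceaada,
    0x5ea76ada]) (unz 3 0x3264c5c5c5c5))

theorem A2A1_102_gen : FX A2A1_102
    (List.map (fun l => (l, 1)) (List.map (unz 2) [0x9aaaa, 0x2aadaa])) :=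
  FX.ofC A2A1_102_good
    (FC.delta A2A1_102 [0, 1])
    _ (by decide +kernel)

theorem A2A1_102_fx : FX A2A1_102 A2A1_102_bas := FX.comb A2A1_102_good A2A1_102_gen (List.zipWith (fun a b => ⟨a, b, 1⟩)
    (List.map (fun n => List.map Prod.swap (unv 4 n)) [0x4620e3, 0x2310e3, 0x4620d3, 0x2310d3, 0x118821, 0x8c421])
    (List.map (unv 2) [0x1a, 0x1a, 0x1a, 0x1a, 0x5a, 0x5a]))
    _ (by decide +kernel)

theorem A2A1_102_io : invOK A2A1_102 A2A1_102_bas A2A1_102_inv = true := by decide +kernel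

theorem A2A1_102_fc : FC A2A1_102 A2A1_102_cf := FC.ofX A2A1_102_good A2A1_102_fx _ (by decide +kernel)

noncomputable def A2A1_102_L : Lat := ⟨A2A1_102, A2A1_102_bas, A2A1_102_inv⟩

theorem A2A1_102_ok : A2A1_102_L.Ok := ⟨A2A1_102_good, A2A1_102_fx, A2A1_102_io⟩

noncomputable def B3 : Nd where
  r := 3
  AL := [[2, -1, 0], [-1, 2, -1], [0, -2, 2]]
  sg := [0, 1, 2]
  tab :=
    0xfffffffffffffffffffffffffffe0200100000000000000000000000000000fe0108000000000000000000000000000000fe00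
  tbs :=
    0xfffffffffffffffffffffffffffe0200100000000000000000000000000000fe0108000000000000000000000000000000fe00
  n0 := 0x414141
  RL := (List.map (unz 2) [0x9a, 0xd1, 0x289, 0x1aa, 0x9d1, 0x551, 0x13aa, 0xaaa, 0x273a])
  K := 10
  rep := (unp 6 0x20204204252c8408559081b1026044c48491909311642c1)
  cod := (unp 5 0x1f9f9fdbd4143b7a88836867c837fd10fedf9fa2dbe4342b423f42bfe868368282837)
  nW := (unz 3 0x25921617267932672)
  XC :=
    (List.map (unz 2) [0x37bdee73aaaa, 0x16d574edaa, 0x2d5a26d5a, 0x2ada26ada, 0x2db673aaaa, 0x2d5526ada,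
    0x926daaaa, 0x49356daa, 0x2ad526d5a, 0x6f77bf4edaa])
  nu := (unz 3 0xc1f07c1f07c1f07c1f07c1f07)
  b := 3
  B := 0x2000000000000
  cas :=
    [⟨[0, 1, 2], [2, 1, 2, 0, 1, 2, 0, 1, 0], (unp 5 0x205880b62580908562420243d9080956242d9093645), (unz 3
    0x15ca73af38dceb95)⟩]

theorem B3_good : B3.Good := Nd.good_of_full
    [(List.map (unp 5) [0x220051801360498080c6204055810146202d90136029, 0x20a98081c6206d802362420b5801b608981a6009,
    0x200cd83260098082c602040d98090356206d8226069, 0x200ed88103d6202d80436420f183a6404d80a6049,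
    0x20211190436404d84a6210d84260298126202d, 0x20298103c640ed808446129803b6210d83a620051,
    0x2004d81262005188103d6410d8043640ed884360e9, 0x2006d8082c6200718090356420b181a640cd82a60c9,
    0x20240d5880246240d19082c640cd8226006d8033620ad, 0x22420b59082c60420b582260a9882b6008d8082c620091])]
    (by decide +kernel)

noncomputable def B3_bas : List (List ℤ × ℤ) :=
    (List.map (fun l => (l, 1)) (List.map (unz 2) [0x1249249a, 0xa24924d1, 0x124d24d1, 0x524d1249, 0x24d12689,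
    0x1249a689, 0x1269a249, 0x12493449, 0x13449249, 0x1a249249]))

noncomputable def B3_inv : List (ℤ × List (ℤ × ℕ)) :=
    (List.zip (unz 2 0x275539cea73a) (List.map (unv 3) [0x32, 0x1a94a532, 0x19cab9472, 0x772, 0xce55cc72,
    0xd4a5332, 0x6735cc72, 0x892, 0x992, 0x6a65332]))

noncomputable def B3_cf : List (List (ℤ × ℕ) × ℤ) :=
    (List.zip (List.map (unv 3) [0x264a264ee17385af2479eb24b24e632, 0x992ee3ce3aeb95632,
    0x4cce25cce0d5dc8ebd5c95c99519, 0x993225cee173f95e48e575725926b19, 0x264f7ace3aeb96632,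
    0x4cae264ce0d5dc8ebd5c96498d19, 0x4ca913277f33f95e48e575725727319, 0x99312e77f3385af2479eb24ae4d632,
    0x993123ae38e75a96a6432, 0x99289aae38e75a9473232]) (unz 3 0x20d06c1f07c1f1707c1f1707))

theorem B3_gen : FX B3
    (List.map (fun l => (l, 1)) (List.map (unz 2) [0x2d5a26d5a, 0x2ada26ada, 0x926daaaa])) :=
  FX.ofC B3_good
    (FC.delta B3 [2, 3, 6])
    _ (by decide +kernel)

theorem B3_fx : FX B3 B3_bas := FX.comb B3_good B3_gen (List.zipWith (fun a b => ⟨a, b, 1⟩)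
    (List.map (fun n => List.map Prod.swap (unv 4 n)) [0x325, 0xd3, 0xd3, 0xd3, 0xe3, 0xe3, 0xe3, 0x315, 0x31,
    0x62])
    (List.map (unv 2) [0x1a, 0xd, 0xaa, 0x156d, 0x1a, 0xaa, 0x156d, 0xd, 0xd, 0x1a]))
    _ (by decide +kernel)

theorem B3_io : invOK B3 B3_bas B3_inv = true := by decide +kernel

theorem B3_fc : FC B3 B3_cf := FC.ofX B3_good B3_fx _ (by decide +kernel)

noncomputable def B3_L : Lat := ⟨B3, B3_bas, B3_inv⟩

theorem B3_ok : B3_L.Ok := ⟨B3_good, B3_fx, B3_io⟩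

noncomputable def A3 : Nd where
  r := 3
  AL := [[2, -1, 0], [-1, 2, -1], [0, -1, 2]]
  sg := [0, 1, 2]
  tab :=
    0xfffffffffffffffffffffffffffe0100100000000000000000000000000000fe0108000000000000000000000000000000fe00
  tbs :=
    0xfffffffffffffffffffffffffffe0100100000000000000000000000000000fe0108000000000000000000000000000000fe00
  n0 := 0x414141
  RL := (List.map (unz 2) [0x9a, 0xd1, 0x289, 0x1aa, 0x551, 0xaaa])
  K := 5
  rep := (unp 4 0x1012d814c0660b1)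
  cod := (unp 5 0x41413dbfe867f684827d782847f78282837)
  nW := (unz 3 0x193385c92)
  XC := (List.map (unz 2) [0x6f73aa, 0x168da, 0x4daa, 0x5b3aa, 0x154da])
  nu := (unz 3 0x186c361b0d86)
  b := 3
  B := 0x1000000000000
  cas := [⟨[0, 1, 2], [0, 1, 2, 0, 1, 0], (unp 5 0x916424d896420255880b605), (unz 3 0x1a8c6e64)⟩]

theorem A3_good : A3.Good := Nd.good_of_full
    [(List.map (unp 5) [0x881080e60420358080c642031880b6029, 0x81a60405180136404d8126009,
    0x90236204095880b608980a602031, 0x80a60409180236408d82262042039, 0x901360207189014604981a6024055])]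
    (by decide +kernel)

noncomputable def A3_bas : List (List ℤ × ℤ) :=
    (List.map (fun l => (l, 1)) (List.map (unz 2) [0x249a, 0x24d1, 0x2689, 0x3449, 0xa249]))

noncomputable def A3_inv : List (ℤ × List (ℤ × ℕ)) :=
    (List.zip (unz 2 0xaaaaa) (List.map (unv 2) [0x1a, 0x5a, 0xaa, 0xea, 0x13a]))

noncomputable def A3_cf : List (List (ℤ × ℕ) × ℤ) :=
    (List.zip (List.map (unv 3) [0x11e4d672859c832, 0x11dcd672859b832, 0x6b397632, 0x47ad4cc632, 0x471ea67432])
    (unz 3 0x21617170d86))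

theorem A3_gen : FX A3
    (List.map (fun l => (l, 1)) (List.map (unz 2) [0x6f73aa, 0x168da, 0x4daa])) :=
  FX.ofC A3_good
    (FC.delta A3 [0, 1, 2])
    _ (by decide +kernel)

theorem A3_fx : FX A3 A3_bas := FX.comb A3_good A3_gen (List.zipWith (fun a b => ⟨a, b, 1⟩)
    (List.map (fun n => List.map Prod.swap (unv 4 n)) [0x1c4, 0x1b4, 0x21, 0xc3, 0x72])
    (List.map (unv 2) [0x1a, 0x1a, 0x55, 0x5a, 0x2d]))
    _ (by decide +kernel)

theorem A3_io : invOK A3 A3_bas A3_inv = true := by decide +kernel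

theorem A3_fc : FC A3 A3_cf := FC.ofX A3_good A3_fx _ (by decide +kernel)

noncomputable def A3_L : Lat := ⟨A3, A3_bas, A3_inv⟩

theorem A3_ok : A3_L.Ok := ⟨A3_good, A3_fx, A3_io⟩

noncomputable def A3_210 : Nd where
  r := 3
  AL := [[2, -1, 0], [-1, 2, -1], [0, -1, 2]]
  sg := [2, 1, 0]
  tab :=
    0xfffffffffffffffffffffffffffe0100100000000000000000000000000000fe0108000000000000000000000000000000fe00
  tbs := 0xfe000000000000000000000000000000fe0108fffffffffffffffffffffffffffe010010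
  n0 := 0x414141
  RL := (List.map (unz 2) [0x9a, 0xd1, 0x289, 0x1aa, 0x551, 0xaaa])
  K := 5
  rep := (unp 5 0x2020421980a6258161)
  cod := (unp 5 0x7e7e7f684827d7847e85782847f78282837)
  nW := (unz 3 0x1285c9933)
  XC := (List.map (unz 2) [0x13aaaa, 0x6daa, 0x6d5a, 0x1689a, 0x4eaf7a])
  nu := (unz 3 0x186c361b0d86)
  b := 3
  B := 0x1000000000000
  cas := [⟨[0, 1, 2], [0, 1, 2, 0, 1, 0], (unp 5 0x916424d896420255880b605), (unz 3 0x37351e4)⟩]

theorem A3_210_good : A3_210.Good := Nd.good_of_full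
    [(List.map (unp 5) [0x800b620031812604051880b6029, 0x8003604071881b602007581a6009, 0x8801c6006d8026089881b6069,
    0x80800d624051880b6004d80a6049, 0x880146004d8101460499013624051])]
    (by decide +kernel)

noncomputable def A3_210_bas : List (List ℤ × ℤ) :=
    (List.map (fun l => (l, 1)) (List.map (unz 2) [0x249a, 0x24d1, 0x2689, 0x3449, 0xa249]))

noncomputable def A3_210_inv : List (ℤ × List (ℤ × ℕ)) :=
    (List.zip (unz 2 0xaaaaa) (List.map (unv 2) [0x1a, 0x5a, 0xaa, 0xea, 0x13a]))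

noncomputable def A3_210_cf : List (List (ℤ × ℕ) × ℤ) :=
    (List.zip (List.map (unv 3) [0x11cb50b2c939073, 0x4732d4c632, 0x47328e7432, 0x11cb50b2b937073, 0x8e5aec73])
    (unz 3 0x3170d0b0b86))

theorem A3_210_gen : FX A3_210
    (List.map (fun l => (l, 1)) (List.map (unz 2) [0x13aaaa, 0x1689a])) :=
  FX.ofC A3_210_good
    (FC.delta A3_210 [0, 3])
    _ (by decide +kernel)

theorem A3_210_fx : FX A3_210 A3_210_bas := FX.comb A3_210_good A3_210_gen (List.zipWith (fun a b => ⟨a, b, 1⟩)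
    (List.map (fun n => List.map Prod.swap (unv 4 n)) [0x1c4, 0xc3, 0x72, 0x1b4, 0x21])
    (List.map (unv 2) [0x1a, 0x1a, 0x1a, 0x1a, 0x2d]))
    _ (by decide +kernel)

theorem A3_210_io : invOK A3_210 A3_210_bas A3_210_inv = true := by decide +kernel

theorem A3_210_fc : FC A3_210 A3_210_cf := FC.ofX A3_210_good A3_210_fx _ (by decide +kernel)

noncomputable def A3_210_L : Lat := ⟨A3_210, A3_210_bas, A3_210_inv⟩

theorem A3_210_ok : A3_210_L.Ok := ⟨A3_210_good, A3_210_fx, A3_210_io⟩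

noncomputable def A1A1A1 : Nd where
  r := 3
  AL := [[2, 0, 0], [0, 2, 0], [0, 0, 2]]
  sg := [0, 1, 2]
  tab :=
    0xfffffffffffffffffffffffffffe000010fffffffffffffffffffffffffffffe0008fffffffffffffffffffffffffffffffe00
  tbs :=
    0xfffffffffffffffffffffffffffe000010fffffffffffffffffffffffffffffe0008fffffffffffffffffffffffffffffffe00
  n0 := 0x414141
  RL := (List.map (unz 2) [0x9a, 0xd1, 0x289])
  K := 8
  rep := (unp 4 0x8096c4a605301992c560b1)
  cod := (unp 5 0xfcfcfedf9fa0dbf413fb413f3fbfe82836827e83782827f78282837)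
  nW := (unz 2 0xaaaaaaaa)
  XC :=
    (List.map (unz 2) [0xaaaaaaaa, 0xb6daaaa, 0xb6aadaa, 0xb56ad5a, 0xaab6daa, 0xab56d5a, 0xab6aada, 0xb556ada])
  nu := (unz 3 0x8585858585858585)
  b := 1
  B := 0x100000000000
  cas :=
    [⟨[0], [0], (unp 3 0x85), (unz 2 0xb6daaaa)⟩, ⟨[1], [1], (unp 3 0x8d), (unz 2 0xb6aadaa)⟩, ⟨[2], [2], (unp 3
    0x95), (unz 2 0xb56ad5a)⟩]

theorem A1A1A1_good : A1A1A1.Good := Nd.good_of_full
    [(List.map (unp 4) [0x1019, 0x1009, 0x1049, 0x1059, 0x1029, 0x1039, 0x1079, 0x1069]), (List.map (unp 4)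
    [0x1029, 0x1049, 0x1009, 0x1069, 0x1019, 0x1079, 0x1039, 0x1059]), (List.map (unp 4) [0x1039, 0x1059, 0x1069,
    0x1009, 0x1079, 0x1019, 0x1029, 0x1049])]
    (by decide +kernel)

noncomputable def A1A1A1_bas : List (List ℤ × ℤ) :=
    (List.map (fun l => (l, 1)) (List.map (unz 2) [0x49249a, 0x4924d1, 0x492689, 0x493449, 0x49a249, 0x4d1249,
    0x689249, 0x1449249]))

noncomputable def A1A1A1_inv : List (ℤ × List (ℤ × ℕ)) :=
    (List.zip (unz 2 0xaaaaaaaa) (List.map (unv 2) [0x1a, 0x5a, 0xaa, 0xea, 0x13a, 0x17a, 0x1ba, 0x1fa]))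

noncomputable def A1A1A1_cf : List (List (ℤ × ℕ) × ℤ) :=
    (List.zip (List.map (unv 2) [0x3f5babd4ebaaaad1a, 0x3f776f675d6aad1a, 0x3f776f53bd556d1a, 0x3f5babd9deb56d1a,
    0x3f7757b3bd55569a, 0x3f5bb7a9deb5569a, 0x3f5bb7b3aeaab69a, 0x3f7757a9d75ab69a]) (unz 3 0x8585858585858585))

theorem A1A1A1_gen : FX A1A1A1
    (List.map (fun l => (l, 1)) (List.map (unz 2) [0xaaaaaaaa])) :=
  FX.ofC A1A1A1_good
    (FC.delta A1A1A1 [0])
    _ (by decide +kernel)

theorem A1A1A1_fx : FX A1A1A1 A1A1A1_bas := FX.comb A1A1A1_good A1A1A1_gen (List.zipWith (fun a b => ⟨a, b, 1⟩)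
    (List.map (fun n => List.map Prod.swap (unv 4 n)) [0x228a31062, 0x114631062, 0x114518862, 0x8a318862,
    0x114518831, 0x8a318831, 0x8a28c431, 0x4518c431])
    (List.map (unv 2) [0x1a, 0x1a, 0x1a, 0x1a, 0x1a, 0x1a, 0x1a, 0x1a]))
    _ (by decide +kernel)

theorem A1A1A1_io : invOK A1A1A1 A1A1A1_bas A1A1A1_inv = true := by decide +kernel

theorem A1A1A1_fc : FC A1A1A1 A1A1A1_cf := FC.ofX A1A1A1_good A1A1A1_fx _ (by decide +kernel)

noncomputable def A1A1A1_L : Lat := ⟨A1A1A1, A1A1A1_bas, A1A1A1_inv⟩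

theorem A1A1A1_ok : A1A1A1_L.Ok := ⟨A1A1A1_good, A1A1A1_fx, A1A1A1_io⟩

noncomputable def A1A1A1_021 : Nd where
  r := 3
  AL := [[2, 0, 0], [0, 2, 0], [0, 0, 2]]
  sg := [0, 2, 1]
  tab :=
    0xfffffffffffffffffffffffffffe000010fffffffffffffffffffffffffffffe0008fffffffffffffffffffffffffffffffe00
  tbs :=
    0xfffffffffffffffffffffffffffffe0008fffffffffffffffffffffffffffe000010fffffffffffffffffffffffffffffffe00
  n0 := 0x414141
  RL := (List.map (unz 2) [0x9a, 0xd1, 0x289])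
  K := 4
  rep := (unp 4 0x814c960b1)
  cod := (unp 5 0x3f413fb7e8283682827f78282837)
  nW := (unz 2 0x9ce73)
  XC := (List.map (unz 2) [0xaaaa, 0x2daa, 0x2d5a, 0x2ada])
  nu := (unz 3 0x85858585)
  b := 1
  B := 0x100000000000
  cas := [⟨[0], [0], (unp 3 0x85), (unz 2 0x2daa)⟩, ⟨[1, 2], [2, 1], (unp 3 0x8d95), (unz 2 0x3a7d3)⟩]

theorem A1A1A1_021_good : A1A1A1_021.Good := Nd.good_of_full
    [(List.map (unp 4) [0x1019, 0x1009, 0x1039, 0x1029]), (List.map (unp 4) [0x2205b029, 0x2207b039, 0x2201b009,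
    0x2203b019])]
    (by decide +kernel)

noncomputable def A1A1A1_021_bas : List (List ℤ × ℤ) :=
    (List.map (fun l => (l, 1)) (List.map (unz 2) [0x49a, 0x4d1, 0x689, 0x1449]))

noncomputable def A1A1A1_021_inv : List (ℤ × List (ℤ × ℕ)) :=
    (List.zip (unz 2 0xaaaa) (List.map (unv 2) [0x1a, 0x5a, 0xaa, 0xea]))

noncomputable def A1A1A1_021_cf : List (List (ℤ × ℕ) × ℤ) :=
    (List.zip (List.map (unv 2) [0x3aaaad1a, 0xeb56d1a, 0xeb5569a, 0xeaab69a]) (unz 3 0x8912244))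

theorem A1A1A1_021_gen : FX A1A1A1_021
    (List.map (fun l => (l, 1)) (List.map (unz 2) [0xaaaa])) :=
  FX.ofC A1A1A1_021_good
    (FC.delta A1A1A1_021 [0])
    _ (by decide +kernel)

theorem A1A1A1_021_fx : FX A1A1A1_021 A1A1A1_021_bas := FX.comb A1A1A1_021_good A1A1A1_021_gen (List.zipWith (fun a b => ⟨a, b, 1⟩)
    (List.map (fun n => List.map Prod.swap (unv 4 n)) [0x461862, 0x239062, 0x230c31, 0x11c831])
    (List.map (unv 2) [0x1a, 0x1a, 0x1a, 0x1a]))
    _ (by decide +kernel)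

theorem A1A1A1_021_io : invOK A1A1A1_021 A1A1A1_021_bas A1A1A1_021_inv = true := by decide +kernel

theorem A1A1A1_021_fc : FC A1A1A1_021 A1A1A1_021_cf := FC.ofX A1A1A1_021_good A1A1A1_021_fx _ (by decide +kernel)

noncomputable def A1A1A1_021_L : Lat := ⟨A1A1A1_021, A1A1A1_021_bas, A1A1A1_021_inv⟩

theorem A1A1A1_021_ok : A1A1A1_021_L.Ok := ⟨A1A1A1_021_good, A1A1A1_021_fx, A1A1A1_021_io⟩

noncomputable def A1A1A1_120 : Nd where
  r := 3
  AL := [[2, 0, 0], [0, 2, 0], [0, 0, 2]]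
  sg := [1, 2, 0]
  tab :=
    0xfffffffffffffffffffffffffffe000010fffffffffffffffffffffffffffffe0008fffffffffffffffffffffffffffffffe00
  tbs :=
    0xfffffffffffffffffffffffffffffffe00fffffffffffffffffffffffffffe000010fffffffffffffffffffffffffffffe0008
  n0 := 0x414141
  RL := (List.map (unz 2) [0x9a, 0xd1, 0x289])
  K := 2
  rep := (unp 3 0x959)
  cod := (unp 5 0x7e828368282837)
  nW := (unz 3 0x2244)
  XC := (List.map (unz 2) [0xaa, 0x5a])
  nu := (unz 3 0x8585)
  b := 1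
  B := 0x100000000000
  cas := [⟨[0, 1, 2], [2, 1, 0], (unp 3 0x858d95), (unz 2 0x2fb)⟩]

theorem A1A1A1_120_good : A1A1A1_120.Good := Nd.good_of_full
    [(List.map (unp 4) [0x48076203b019, 0x48036201b009])]
    (by decide +kernel)

noncomputable def A1A1A1_120_bas : List (List ℤ × ℤ) :=
    (List.map (fun l => (l, 1)) (List.map (unz 2) [0x1a, 0x51]))

noncomputable def A1A1A1_120_inv : List (ℤ × List (ℤ × ℕ)) :=
    (List.zip (unz 2 0xaa) (List.map (unv 2) [0x1a, 0x5a]))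

noncomputable def A1A1A1_120_cf : List (List (ℤ × ℕ) × ℤ) :=
    (List.zip (List.map (unv 2) [0x2d1a, 0x169a]) (unz 2 0x273))

theorem A1A1A1_120_gen : FX A1A1A1_120
    (List.map (fun l => (l, 1)) (List.map (unz 2) [0xaa])) :=
  FX.ofC A1A1A1_120_good
    (FC.delta A1A1A1_120 [0])
    _ (by decide +kernel)

theorem A1A1A1_120_fx : FX A1A1A1_120 A1A1A1_120_bas := FX.comb A1A1A1_120_good A1A1A1_120_gen (List.zipWith (fun a b => ⟨a, b, 1⟩)
    (List.map (fun n => List.map Prod.swap (unv 4 n)) [0xe3, 0xd3])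
    (List.map (unv 2) [0x1a, 0x1a]))
    _ (by decide +kernel)

theorem A1A1A1_120_io : invOK A1A1A1_120 A1A1A1_120_bas A1A1A1_120_inv = true := by decide +kernel

theorem A1A1A1_120_fc : FC A1A1A1_120 A1A1A1_120_cf := FC.ofX A1A1A1_120_good A1A1A1_120_fx _ (by decide +kernel)

noncomputable def A1A1A1_120_L : Lat := ⟨A1A1A1_120, A1A1A1_120_bas, A1A1A1_120_inv⟩

theorem A1A1A1_120_ok : A1A1A1_120_L.Ok := ⟨A1A1A1_120_good, A1A1A1_120_fx, A1A1A1_120_io⟩


end Cfsg.Agent.LV.W
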